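import Cfsg.Agent.EqLemmas
import Cfsg.Agent.Lib.Cores.Fitting
import Cfsg.Agent.Lib.Solvable.Fitting

/-!
# An element of order three with one cubic Jordan block

* `Core`: a group `R⟨b⟩` acting irreducibly in characteristic three, `b` of rank two
* `Block.frame`: the lines of the four-group and the fixed space
* `Core.scalar_of_commute`, `Core.central_cases`: scalars
* `support`: elements trivial modulo a subspace
-/

set_option autoImplicit false
set_option linter.unusedSectionVars false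

namespace Cfsg.Agent.CubicBlock

open Module

local notation "𝔽" => ZMod 3

variable {K W : Type*} [Group K] [AddCommGroup W] [Module 𝔽 W]

/-- An element of order three of rank two moving a four-group. -/
structure Block (ρ : Representation 𝔽 K W) (Q : Subgroup K) (b : K) : Prop where
  inj : Function.Injective ρ
  cube : b ^ 3 = 1
  elem : ∀ q ∈ Q, q * q = 1
  card : Nat.card Q = 4
  conj : ∀ q ∈ Q, b * q * b⁻¹ ∈ Q
  move : ∃ q ∈ Q, b * q ≠ q * b
  rank : finrank 𝔽 (LinearMap.range (ρ b - 1)) ≤ 2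

/-- The hypotheses. -/
structure Core (ρ : Representation 𝔽 K W) (R Q : Subgroup K) (b : K) : Prop extends Block ρ Q b where
  normal : R.Normal
  cop : (Nat.card R).Coprime 3
  gen : ∀ L : Subgroup K, L.Normal → b ∈ L → L = ⊤
  cases : ∀ k : K, ∃ r ∈ R, ∃ i : ℕ, k = r * b ^ i
  solv : Group.IsSolvable K
  irr : ∀ N : Submodule 𝔽 W, (∀ k, ∀ w ∈ N, ρ k w ∈ N) → N = ⊥ ∨ N = ⊤
  le : Q ≤ R

variable {ρ : Representation 𝔽 K W} {R Q : Subgroup K} {b : K}

theorem mul_apply (ρ : Representation 𝔽 K W) (g h : K) (w : W) : ρ (g * h) w = ρ g (ρ h w) := by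
  rw [map_mul]; rfl

theorem one_apply (ρ : Representation 𝔽 K W) (w : W) : ρ 1 w = w := by
  rw [map_one]; rfl

theorem inv_apply_self (ρ : Representation 𝔽 K W) (g : K) (w : W) : ρ g⁻¹ (ρ g w) = w := by
  rw [← mul_apply, inv_mul_cancel, one_apply]

theorem apply_inv_self (ρ : Representation 𝔽 K W) (g : K) (w : W) : ρ g (ρ g⁻¹ w) = w := by
  rw [← mul_apply, mul_inv_cancel, one_apply]

theorem apply_injective (ρ : Representation 𝔽 K W) (g : K) : Function.Injective (ρ g) :=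
  Function.LeftInverse.injective (inv_apply_self ρ g)

/-- The elements acting trivially modulo a subspace. -/
def support (ρ : Representation 𝔽 K W) (U : Submodule 𝔽 W) : Subgroup K where
  carrier := {k | ∀ w, ρ k w - w ∈ U}
  one_mem' w := by rw [one_apply, sub_self]; exact U.zero_mem
  mul_mem' {k l} hk hl w := by
    rw [mul_apply, show ρ k (ρ l w) - w = (ρ k (ρ l w) - ρ l w) + (ρ l w - w) by abel]
    exact U.add_mem (hk _) (hl _)
  inv_mem' {k} hk w := by
    have := U.neg_mem (hk (ρ k⁻¹ w))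
    rwa [apply_inv_self, neg_sub] at this

theorem mem_support_range (ρ : Representation 𝔽 K W) (k : K) :
    k ∈ support ρ (LinearMap.range (ρ k - 1)) := fun w => ⟨w, rfl⟩

theorem support_mono {U U' : Submodule 𝔽 W} (h : U ≤ U') : support ρ U ≤ support ρ U' :=
  fun _ hk w => h (hk w)

/-- The lines and the fixed space of the four-group. -/
structure Frame (ρ : Representation 𝔽 K W) (Q : Subgroup K) (b : K) where
  /-- A vector on the first line. -/
  e : W
  /-- Its coordinate. -/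
  c : W →ₗ[𝔽] 𝔽
  /-- The projection on the fixed space. -/
  P : W →ₗ[𝔽] W
  c_e : c e = 1
  c_be : c (ρ b e) = 0
  c_bbe : c (ρ b (ρ b e)) = 0
  c_P : ∀ w, c (P w) = 0
  P_e : P e = 0
  P_idem : ∀ w, P (P w) = P w
  P_b : ∀ w, P (ρ b w) = P w
  b_P : ∀ w, ρ b (P w) = P w
  decomp : ∀ w, c w • e + c (ρ b (ρ b w)) • ρ b e + c (ρ b w) • ρ b (ρ b e) + P w = w
  q : K
  q_mem : q ∈ Q
  q_e : ρ q e = -e
  q_be : ρ q (ρ b e) = -ρ b e
  q_bbe : ρ q (ρ b (ρ b e)) = ρ b (ρ b e)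
  q_P : ∀ w, ρ q (P w) = P w

theorem Block.b_apply (C : Block ρ Q b) (w : W) : ρ b (ρ b (ρ b w)) = w := by
  rw [← mul_apply, ← mul_apply, show b * b * b = b ^ 3 by simp [pow_succ], C.cube, one_apply]

theorem Block.four (C : Block ρ Q b) : ∃ q₁ q₂ : K, q₁ ∈ Q ∧ q₂ ∈ Q ∧ q₁ ≠ 1 ∧ q₂ ≠ 1 ∧ q₁ ≠ q₂ ∧
    b * q₁ * b⁻¹ = q₂ ∧ b * q₂ * b⁻¹ = q₁ * q₂ ∧ b * (q₁ * q₂) * b⁻¹ = q₁ ∧
    (∀ q ∈ Q, q = 1 ∨ q = q₁ ∨ q = q₂ ∨ q = q₁ * q₂) := by
  classical
  obtain ⟨q₁, h₁, hm⟩ := C.move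
  set q₂ := b * q₁ * b⁻¹ with hq₂
  have h₂ : q₂ ∈ Q := C.conj q₁ h₁
  have n₁ : q₁ ≠ 1 := fun h => hm (by simp [h])
  have n₂ : q₂ ≠ 1 := fun h => n₁ (by rwa [hq₂, mul_inv_eq_one, mul_eq_left] at h)
  have n₁₂ : q₁ ≠ q₂ := fun h => hm (by
    conv_rhs => rw [h, hq₂]
    group)
  have n₃ : q₁ * q₂ ≠ 1 := fun h => n₁₂ (by
    rw [← mul_one q₁, ← C.elem q₂ h₂, ← mul_assoc, h, one_mul])
  have hall : ∀ q ∈ Q, q = 1 ∨ q = q₁ ∨ q = q₂ ∨ q = q₁ * q₂ := by
    intro q hq
    by_contra hne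
    push Not at hne
    have : Finite Q := Nat.finite_of_card_ne_zero (by rw [C.card]; norm_num)
    have := Fintype.ofFinite Q
    have hle := (({⟨1, Q.one_mem⟩, ⟨q₁, h₁⟩, ⟨q₂, h₂⟩, ⟨q₁ * q₂, Q.mul_mem h₁ h₂⟩, ⟨q, hq⟩} :
      Finset Q)).card_le_univ
    rw [Finset.card_insert_of_notMem (by simp [n₁.symm, n₂.symm, n₃.symm, hne.1.symm]),
      Finset.card_insert_of_notMem (by simp [n₁₂, hne.2.1.symm, n₂]),
      Finset.card_insert_of_notMem (by simp [hne.2.2.1.symm, n₁]),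
      Finset.card_insert_of_notMem (by simp [hne.2.2.2.symm]), Finset.card_singleton,
      ← Nat.card_eq_fintype_card, C.card] at hle
    omega
  have hb3 : b * (b * (b * q₁ * b⁻¹) * b⁻¹) * b⁻¹ = q₁ := by
    have h := C.cube
    calc b * (b * (b * q₁ * b⁻¹) * b⁻¹) * b⁻¹ = b ^ 3 * q₁ * (b ^ 3)⁻¹ := by
          rw [pow_succ, pow_succ, pow_one]; group
      _ = q₁ := by rw [h]; group
  rw [← hq₂] at hb3
  have h3 : b * q₂ * b⁻¹ = q₁ * q₂ := by
    rcases hall _ (C.conj q₂ h₂) with h | h | h | h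
    · exact absurd (by rwa [mul_inv_eq_one, mul_eq_left] at h) n₂
    · rw [h, ← hq₂] at hb3
      exact absurd hb3.symm n₁₂
    · rw [h, h] at hb3
      exact absurd hb3.symm n₁₂
    · exact h
  exact ⟨q₁, q₂, h₁, h₂, n₁, n₂, n₁₂, hq₂.symm, h3, by rw [h3] at hb3; exact hb3, hall⟩

variable [Finite W]

theorem Block.frame (C : Block ρ Q b) : Nonempty (Frame ρ Q b) := by
  obtain ⟨q₁, q₂, h₁, h₂, n₁, n₂, n₁₂, e12, e23, e31, -⟩ := C.four
  set A₁ := ρ q₁ with hA₁
  set A₂ := ρ q₂ with hA₂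
  set A₃ := ρ (q₁ * q₂) with hA₃
  have hc : ∀ {x y : K}, b * x * b⁻¹ = y → ∀ w, ρ b (ρ x w) = ρ y (ρ b w) := fun {x y} h w => by
    rw [← mul_apply, ← mul_apply, ← h]; group
  have b1 : ∀ w, ρ b (A₁ w) = A₂ (ρ b w) := hc e12
  have b2 : ∀ w, ρ b (A₂ w) = A₃ (ρ b w) := hc e23
  have b3 : ∀ w, ρ b (A₃ w) = A₁ (ρ b w) := hc e31
  have s1 : ∀ w, A₁ (A₁ w) = w := fun w => by rw [hA₁, ← mul_apply, C.elem q₁ h₁, one_apply]
  have s2 : ∀ w, A₂ (A₂ w) = w := fun w => by rw [hA₂, ← mul_apply, C.elem q₂ h₂, one_apply]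
  have hcm : q₂ * q₁ = q₁ * q₂ := by
    have h : (q₁ * q₂) * (q₁ * q₂) = 1 := C.elem _ (Q.mul_mem h₁ h₂)
    calc q₂ * q₁ = q₁⁻¹ * ((q₁ * q₂) * (q₁ * q₂)) * q₂⁻¹ := by group
      _ = q₁⁻¹ * q₂⁻¹ := by rw [h, mul_one]
      _ = q₁ * q₂ := by
        rw [inv_eq_of_mul_eq_one_right (C.elem q₁ h₁), inv_eq_of_mul_eq_one_right (C.elem q₂ h₂)]
  have p12 : ∀ w, A₁ (A₂ w) = A₃ w := fun w => by rw [hA₃, mul_apply]
  have p21 : ∀ w, A₂ (A₁ w) = A₃ w := fun w => by rw [hA₃, ← hcm, mul_apply]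
  have p13 : ∀ w, A₁ (A₃ w) = A₂ w := fun w => by rw [← p12, s1]
  have p31 : ∀ w, A₃ (A₁ w) = A₂ w := fun w => by rw [← p21, s1]
  have p23 : ∀ w, A₂ (A₃ w) = A₁ w := fun w => by rw [← p21, s2]
  have p32 : ∀ w, A₃ (A₂ w) = A₁ w := fun w => by rw [← p12, s2]
  have s3 : ∀ w, A₃ (A₃ w) = w := fun w => by rw [← p12 (A₃ w), p23, s1]
  let P₀ : W →ₗ[𝔽] W := LinearMap.id + A₁ + A₂ + A₃
  let P₁ : W →ₗ[𝔽] W := LinearMap.id - A₁ + A₂ - A₃
  let P₂ : W →ₗ[𝔽] W := LinearMap.id - A₁ - A₂ + A₃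
  let P₃ : W →ₗ[𝔽] W := LinearMap.id + A₁ - A₂ - A₃
  have four : ∀ w : W, w + w + w = 0 := fun w => by
    have : (3 : 𝔽) • w = 0 := by rw [show (3 : 𝔽) = 0 by decide, zero_smul]
    rw [show (3 : 𝔽) = 1 + 1 + 1 by decide, add_smul, add_smul, one_smul] at this
    exact this
  have four' : ∀ w : W, w + w + w + w = w := fun w => by rw [four, zero_add]
  have sum : ∀ w, P₁ w + P₂ w + P₃ w + P₀ w = w := fun w => by
    simp only [P₀, P₁, P₂, P₃, LinearMap.add_apply, LinearMap.sub_apply, LinearMap.id_apply]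
    conv_rhs => rw [← four' w]
    abel
  have bP₀ : ∀ w, ρ b (P₀ w) = P₀ (ρ b w) := fun w => by
    simp only [P₀, LinearMap.add_apply, LinearMap.id_apply, map_add, b1, b2, b3]; abel
  have bP₁ : ∀ w, ρ b (P₁ w) = P₂ (ρ b w) := fun w => by
    simp only [P₁, P₂, LinearMap.add_apply, LinearMap.sub_apply, LinearMap.id_apply, map_add,
      map_sub, b1, b2, b3]; abel
  have bP₂ : ∀ w, ρ b (P₂ w) = P₃ (ρ b w) := fun w => by
    simp only [P₂, P₃, LinearMap.add_apply, LinearMap.sub_apply, LinearMap.id_apply, map_add,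
      map_sub, b1, b2, b3]; abel
  have bP₃ : ∀ w, ρ b (P₃ w) = P₁ (ρ b w) := fun w => by
    simp only [P₁, P₃, LinearMap.add_apply, LinearMap.sub_apply, LinearMap.id_apply, map_add,
      map_sub, b1, b2, b3]; abel
  have i₀ : ∀ w, P₀ (P₀ w) = P₀ w := fun w => by
    conv_rhs => rw [← four' (P₀ w)]
    simp only [P₀, LinearMap.add_apply, LinearMap.id_apply, map_add, s1, s2, s3, p12, p21, p13,
      p31, p23, p32]
    abel
  have i₁ : ∀ w, P₁ (P₁ w) = P₁ w := fun w => by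
    conv_rhs => rw [← four' (P₁ w)]
    simp only [P₁, LinearMap.add_apply, LinearMap.sub_apply, LinearMap.id_apply, map_add, map_sub,
      s1, s2, s3, p12, p21, p13, p31, p23, p32]
    abel
  have o10 : ∀ w, P₁ (P₀ w) = 0 := fun w => by
    simp only [P₁, P₀, LinearMap.add_apply, LinearMap.sub_apply, LinearMap.id_apply, map_add, map_sub,
      s1, s2, s3, p12, p21, p13, p31, p23, p32]
    abel
  have o01 : ∀ w, P₀ (P₁ w) = 0 := fun w => by
    simp only [P₁, P₀, LinearMap.add_apply, LinearMap.sub_apply, LinearMap.id_apply, map_add, map_sub,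
      s1, s2, s3, p12, p21, p13, p31, p23, p32]
    abel
  have o12 : ∀ w, P₁ (P₂ w) = 0 := fun w => by
    simp only [P₁, P₂, LinearMap.add_apply, LinearMap.sub_apply, LinearMap.id_apply, map_add, map_sub,
      s1, s2, s3, p12, p21, p13, p31, p23, p32]
    abel
  have o13 : ∀ w, P₁ (P₃ w) = 0 := fun w => by
    simp only [P₁, P₃, LinearMap.add_apply, LinearMap.sub_apply, LinearMap.id_apply, map_add, map_sub,
      s1, s2, s3, p12, p21, p13, p31, p23, p32]
    abel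
  have o31 : ∀ w, P₃ (P₁ w) = 0 := fun w => by
    simp only [P₁, P₃, LinearMap.add_apply, LinearMap.sub_apply, LinearMap.id_apply, map_add, map_sub,
      s1, s2, s3, p12, p21, p13, p31, p23, p32]
    abel
  have q₁P₀ : ∀ w, A₁ (P₀ w) = P₀ w := fun w => by
    simp only [P₀, LinearMap.add_apply, LinearMap.id_apply, map_add, s1, p12, p13]; abel
  have q₁P₁ : ∀ w, A₁ (P₁ w) = -P₁ w := fun w => by
    simp only [P₁, LinearMap.add_apply, LinearMap.sub_apply, LinearMap.id_apply, map_add, map_sub,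
      s1, p12, p13]; abel
  have q₁P₂ : ∀ w, A₁ (P₂ w) = -P₂ w := fun w => by
    simp only [P₂, LinearMap.add_apply, LinearMap.sub_apply, LinearMap.id_apply, map_add, map_sub,
      s1, p12, p13]; abel
  have q₁P₃ : ∀ w, A₁ (P₃ w) = P₃ w := fun w => by
    simp only [P₃, LinearMap.add_apply, LinearMap.sub_apply, LinearMap.id_apply, map_add, map_sub,
      s1, p12, p13]; abel
  have b3' := C.b_apply
  -- the first space is nonzero
  obtain ⟨e, he, he0⟩ : ∃ e, P₁ e = e ∧ e ≠ 0 := by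
    by_contra hno
    push Not at hno
    have z1 : ∀ w, P₁ w = 0 := fun w => hno _ (i₁ w)
    have z2 : ∀ w, P₂ w = 0 := fun w => by
      rw [← apply_inv_self ρ b w, ← bP₁, z1, map_zero]
    have z3 : ∀ w, P₃ w = 0 := fun w => by
      rw [← apply_inv_self ρ b w, ← bP₂, z2, map_zero]
    refine n₁ (C.inj ?_)
    refine LinearMap.ext fun w => ?_
    rw [map_one]
    have hw : P₀ w = w := by
      have := sum w
      simpa [z1, z2, z3] using this
    show A₁ w = w
    rw [← hw, q₁P₀]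
  have hbe : P₂ (ρ b e) = ρ b e := by rw [← bP₁, he]
  have hbbe : P₃ (ρ b (ρ b e)) = ρ b (ρ b e) := by rw [← bP₂, hbe]
  -- the range of `b - 1`
  let N : W →ₗ[𝔽] W := ρ b - 1
  have hN : ∀ w, N w = ρ b w - w := fun w => rfl
  let φ : LinearMap.range P₁ × LinearMap.range P₁ →ₗ[𝔽] LinearMap.range N :=
    LinearMap.coprod ((N.rangeRestrict).comp (Submodule.subtype _))
      ((N.rangeRestrict).comp ((ρ b).comp (Submodule.subtype _)))
  have hφinj : Function.Injective φ := by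
    rw [injective_iff_map_eq_zero]
    rintro ⟨⟨u, u', hu⟩, ⟨v, v', hv⟩⟩ h
    have h' : (ρ b u - u) + (ρ b (ρ b v) - ρ b v) = 0 := congrArg Subtype.val h
    have hu' : P₁ u = u := by rw [← hu, i₁]
    have hv' : P₁ v = v := by rw [← hv, i₁]
    have hu2 : P₂ (ρ b u) = ρ b u := by rw [← bP₁, hu']
    have hv2 : P₂ (ρ b v) = ρ b v := by rw [← bP₁, hv']
    have hv3 : P₃ (ρ b (ρ b v)) = ρ b (ρ b v) := by rw [← bP₂, hv2]
    have e1 := congrArg P₁ h'
    rw [map_add, map_sub, map_sub, map_zero, hu', ← hu2, ← hv3, ← hv2, o12, o12, o13] at e1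
    have hu0 : u = 0 := by simpa using e1
    subst hu0
    rw [map_zero, sub_zero, zero_add, sub_eq_zero] at h'
    have hv0 : v = 0 := by
      have h'' : ρ b v = v := apply_injective ρ b h'
      rw [← hv', ← h'', ← hv2, o12]
    subst hv0
    rfl
  have hle := LinearMap.finrank_le_finrank_of_injective hφinj
  rw [Module.finrank_prod] at hle
  have hR2 := C.rank
  have hL1 : finrank 𝔽 (LinearMap.range P₁) ≤ 1 := by
    have : finrank 𝔽 (LinearMap.range N) ≤ 2 := hR2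
    omega
  have hline : ∀ w, ∃ a : 𝔽, a • e = P₁ w := fun w => by
    obtain ⟨v, hv⟩ := finrank_le_one_iff.1 hL1
    obtain ⟨a, ha⟩ := hv ⟨e, e, he⟩
    obtain ⟨a', ha'⟩ := hv ⟨P₁ w, w, rfl⟩
    have ha0 : a ≠ 0 := fun h => he0 (by
      have := congrArg Subtype.val ha
      simpa [h] using this.symm)
    refine ⟨a' / a, ?_⟩
    have h1 := congrArg Subtype.val ha
    have h2 := congrArg Subtype.val ha'
    simp only [Submodule.coe_smul] at h1 h2
    rw [← h2, ← h1, smul_smul, div_mul_cancel₀ _ ha0]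
  obtain ⟨g, hg⟩ := Projective.exists_dual_eq_one 𝔽 he0
  let c : W →ₗ[𝔽] 𝔽 := g.comp P₁
  have hcw : ∀ w, c w • e = P₁ w := fun w => by
    obtain ⟨a, ha⟩ := hline w
    show g (P₁ w) • e = P₁ w
    rw [← ha, map_smul, hg, smul_eq_mul, mul_one]
  -- `b` is trivial on the fixed space
  have hfix : ∀ w, ρ b (P₀ w) = P₀ w := by
    intro w
    have hsurj : Function.Surjective φ := by
      rw [← LinearMap.range_eq_top]
      apply Submodule.eq_top_of_finrank_eq
      rw [LinearMap.finrank_range_of_inj hφinj]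
      refine le_antisymm ?_ ?_
      · exact LinearMap.finrank_le_finrank_of_injective hφinj
      · rw [Module.finrank_prod]
        have h1 : 0 < finrank 𝔽 (LinearMap.range P₁) := by
          have : Nontrivial (LinearMap.range P₁) := ⟨⟨⟨e, e, he⟩, 0, fun h => he0 (congrArg Subtype.val h)⟩⟩
          exact Module.finrank_pos
        have : finrank 𝔽 (LinearMap.range N) ≤ 2 := hR2
        omega
    obtain ⟨⟨⟨u, u', hu⟩, ⟨v, v', hv⟩⟩, huv⟩ := hsurj ⟨N (P₀ w), P₀ w, rfl⟩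
    have h : (ρ b u - u) + (ρ b (ρ b v) - ρ b v) = ρ b (P₀ w) - P₀ w := congrArg Subtype.val huv
    have := congrArg P₀ h
    rw [map_add, map_sub, map_sub, map_sub, ← bP₀, ← bP₀, ← bP₀, ← hu, ← hv, o01, o01, map_zero,
      map_zero, sub_self, add_zero, ← bP₀, i₀] at this
    exact sub_eq_zero.1 this.symm
  refine ⟨⟨e, c, P₀, ?_, ?_, ?_, ?_, ?_, i₀, ?_, hfix, ?_, q₁, h₁, ?_, ?_, ?_, q₁P₀⟩⟩
  · show g (P₁ e) = 1
    rw [he, hg]
  · show g (P₁ (ρ b e)) = 0
    rw [← hbe, o12, map_zero]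
  · show g (P₁ (ρ b (ρ b e))) = 0
    rw [← hbbe, o13, map_zero]
  · intro w
    show g (P₁ (P₀ w)) = 0
    rw [o10, map_zero]
  · rw [← he, o01]
  · intro w
    rw [← bP₀, hfix]
  · intro w
    have e2 : c (ρ b (ρ b w)) • ρ b e = P₂ w := by
      rw [← map_smul, hcw, bP₁, b3']
    have e3 : c (ρ b w) • ρ b (ρ b e) = P₃ w := by
      rw [← map_smul, ← map_smul, hcw, bP₁, bP₂, b3']
    rw [hcw, e2, e3, sum]
  · show A₁ e = -e
    rw [← he, q₁P₁]
  · show A₁ (ρ b e) = -ρ b e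
    rw [← hbe, q₁P₂]
  · show A₁ (ρ b (ρ b e)) = ρ b (ρ b e)
    rw [← hbbe, q₁P₃]

variable (F : Frame ρ Q b)

/-- The fixed vector in the block. -/
def Frame.s (F : Frame ρ Q b) : W := F.e + ρ b F.e + ρ b (ρ b F.e)

theorem Frame.c_s : F.c F.s = 1 := by
  simp [Frame.s, F.c_e, F.c_be, F.c_bbe]

theorem Frame.s_ne : F.s ≠ 0 := fun h => by
  have := F.c_s
  simp [h] at this

theorem Frame.b_s (C : Core ρ R Q b) : ρ b F.s = F.s := by
  simp only [Frame.s, map_add, C.b_apply]; abel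

theorem Frame.sq_range (C : Core ρ R Q b) (w : W) : (ρ b - 1) ((ρ b - 1) w) =
    (F.c w + F.c (ρ b (ρ b w)) + F.c (ρ b w)) • F.s := by
  have hN : ∀ v, (ρ b - 1) v = ρ b v - v := fun v => rfl
  rw [hN, hN]
  conv_lhs => rw [← F.decomp w]
  have h2 : ∀ v : W, v + v + v = 0 := fun v => by
    have : (3 : 𝔽) • v = 0 := by rw [show (3 : 𝔽) = 0 by decide, zero_smul]
    rw [show (3 : 𝔽) = 1 + 1 + 1 by decide, add_smul, add_smul, one_smul] at this
    exact this
  have h2' : ∀ v : W, -v - v = v := fun v => by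
    calc -v - v = -(v + v + v) + v := by abel
      _ = v := by rw [h2, neg_zero, zero_add]
  have key : ∀ v, ρ b (ρ b v - v) - (ρ b v - v) = v + ρ b v + ρ b (ρ b v) := fun v => by
    rw [map_sub, show ρ b (ρ b v) - ρ b v - (ρ b v - v) =
      v + (-ρ b v - ρ b v) + ρ b (ρ b v) by abel, h2']
  rw [key]
  simp only [map_add, map_smul, F.b_P, C.b_apply, Frame.s, smul_add, add_smul]
  have := h2 (F.P w)
  conv_rhs => rw [← add_zero (_ + _ + _), ← this]
  abel

theorem Frame.s_eq (C : Core ρ R Q b) : (ρ b - 1) ((ρ b - 1) F.e) = F.s := by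
  rw [F.sq_range C, F.c_e, F.c_be, F.c_bbe, add_zero, add_zero, one_smul]

theorem Core.scalar_of_commute (C : Core ρ R Q b) {f : W →ₗ[𝔽] W}
    (hf : ∀ k w, f (ρ k w) = ρ k (f w)) : ∃ a : 𝔽, ∀ w, f w = a • w := by
  obtain ⟨F⟩ := C.frame
  have hN : ∀ v, f ((ρ b - 1) v) = (ρ b - 1) (f v) := fun v => by
    show f (ρ b v - v) = ρ b (f v) - f v
    rw [map_sub, hf]
  obtain ⟨a, ha⟩ : ∃ a : 𝔽, f F.s = a • F.s :=
    ⟨_, by conv_lhs => rw [← F.s_eq C, hN, hN, F.sq_range C]⟩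
  refine ⟨a, fun w => ?_⟩
  rcases C.irr (LinearMap.ker (f - a • LinearMap.id)) (fun k w hw => by
    simp only [LinearMap.mem_ker, LinearMap.sub_apply, LinearMap.smul_apply, LinearMap.id_apply,
      sub_eq_zero] at hw ⊢
    rw [hf, hw, map_smul]) with h | h
  · refine absurd ?_ F.s_ne
    rw [← Submodule.mem_bot 𝔽, ← h]
    simp [ha]
  · have : w ∈ LinearMap.ker (f - a • LinearMap.id) := h ▸ Submodule.mem_top
    simpa [sub_eq_zero] using this

theorem Core.central_cases (C : Core ρ R Q b) {z : K} (hz : ∀ k, z * k = k * z) :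
    (∀ w, ρ z w = w) ∨ ∀ w, ρ z w = -w := by
  obtain ⟨a, ha⟩ := C.scalar_of_commute (f := ρ z) fun k w => by rw [← mul_apply, hz, mul_apply]
  rcases (by decide : ∀ a : 𝔽, a = 0 ∨ a = 1 ∨ a = -1) a with rfl | rfl | rfl
  · obtain ⟨F⟩ := C.frame
    exact absurd (apply_injective ρ z (by rw [ha, map_zero, zero_smul])) F.s_ne
  · exact Or.inl fun w => by rw [ha, one_smul]
  · exact Or.inr fun w => by rw [ha, neg_one_smul]

theorem Core.le_of_comm (C : Core ρ R Q b) {M : Subgroup K} (hM : M.Normal) (hMR : M ≤ R)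
    (h : ∀ r ∈ R, r * b * r⁻¹ * b⁻¹ ∈ M) : R ≤ M := by
  have hL : (M ⊔ Subgroup.zpowers b).Normal := by
    refine ⟨fun x hx k => ?_⟩
    obtain ⟨r, hr, i, rfl⟩ := C.cases k
    rw [← MulAut.conj_apply]
    have : (M ⊔ Subgroup.zpowers b).map (MulAut.conj (r * b ^ i)).toMonoidHom ≤
        M ⊔ Subgroup.zpowers b := by
      rw [Subgroup.map_sup, MonoidHom.map_zpowers]
      refine sup_le ?_ (Subgroup.zpowers_le.2 ?_)
      · rintro _ ⟨m, hm, rfl⟩
        exact Subgroup.mem_sup_left (hM.conj_mem m hm _)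
      · have e : (MulAut.conj (r * b ^ i)).toMonoidHom b = (r * b * r⁻¹ * b⁻¹) * b := by
          show r * b ^ i * b * (r * b ^ i)⁻¹ = _
          group
        rw [e]
        exact mul_mem (Subgroup.mem_sup_left (h r hr))
          (Subgroup.mem_sup_right (Subgroup.mem_zpowers b))
    exact this ⟨x, hx, rfl⟩
  have htop := C.gen _ hL (Subgroup.mem_sup_right (Subgroup.mem_zpowers b))
  intro r hr
  have hr' : r ∈ M ⊔ Subgroup.zpowers b := htop ▸ Subgroup.mem_top r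
  rw [← SetLike.mem_coe, Subgroup.normal_mul, Set.mem_mul] at hr'
  obtain ⟨m, hm, z, hz, rfl⟩ := hr'
  have hzR : z ∈ R := by simpa using mul_mem (R.inv_mem (hMR hm)) hr
  have h1 : z ^ Nat.card R = 1 := by
    have := pow_card_eq_one' (x := (⟨z, hzR⟩ : R))
    have := congrArg Subtype.val this
    rwa [Subgroup.coe_pow, Subgroup.coe_one] at this
  obtain ⟨j, rfl⟩ := Subgroup.mem_zpowers_iff.1 hz
  have h2 : (b ^ j) ^ 3 = 1 := by
    rw [← zpow_natCast, ← zpow_mul, mul_comm, zpow_mul, zpow_natCast, C.cube, one_zpow]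
  have := pow_gcd_eq_one.2 ⟨h1, h2⟩
  rw [C.cop, pow_one] at this
  simpa [this] using hm

theorem Core.mem_of_coprime (C : Core ρ R Q b) {k : K} {m : ℕ} (hk : k ^ m = 1) (hm : m.Coprime 3) :
    k ∈ R := by
  have := C.normal
  have h3 : ∀ x : K ⧸ R, x ^ 3 = 1 := by
    intro x
    obtain ⟨y, rfl⟩ := QuotientGroup.mk_surjective x
    obtain ⟨r, hr, i, rfl⟩ := C.cases y
    rw [QuotientGroup.mk_mul, (QuotientGroup.eq_one_iff r).2 hr, one_mul, QuotientGroup.mk_pow,
      ← pow_mul, mul_comm, pow_mul, ← QuotientGroup.mk_pow, C.cube, QuotientGroup.mk_one, one_pow]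
  have h1 : ((k : K ⧸ R)) ^ m = 1 := by rw [← QuotientGroup.mk_pow, hk, QuotientGroup.mk_one]
  have := pow_gcd_eq_one.2 ⟨h1, h3 (k : K ⧸ R)⟩
  rw [hm, pow_one] at this
  exact (QuotientGroup.eq_one_iff k).1 this

theorem Core.central_of_commute (C : Core ρ R Q b) {M : Subgroup K} (hM : M.Normal)
    (h : ∀ m ∈ M, b * m = m * b) : ∀ m ∈ M, ∀ k, m * k = k * m := by
  have : b ∈ Subgroup.centralizer (M : Set K) := Subgroup.mem_centralizer_iff.2 fun m hm => (h m hm).symm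
  have htop := C.gen _ (Subgroup.normal_centralizer (H := M)) this
  intro m hm k
  exact Subgroup.mem_centralizer_iff.1 (htop ▸ Subgroup.mem_top k) m hm

variable [Finite K]

theorem Core.pCore_three_eq_bot (C : Core ρ R Q b) : Cfsg.pCore 3 K = ⊥ := by
  set M := Cfsg.pCore 3 K
  have hM : M.Normal := Subgroup.normal_of_characteristic _
  let N : Submodule 𝔽 W :=
    { carrier := {w | ∀ m ∈ M, ρ m w = w}
      zero_mem' := fun m _ => map_zero _
      add_mem' := fun {u v} hu hv m hm => by rw [map_add, hu m hm, hv m hm]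
      smul_mem' := fun a w hw m hm => by rw [map_smul, hw m hm] }
  rcases C.irr N (fun k w hw m hm => by
      have := hw _ (hM.conj_mem m hm k⁻¹)
      rw [inv_inv] at this
      conv_rhs => rw [← this, mul_apply, mul_apply, apply_inv_self]) with h | h
  · exfalso
    obtain ⟨F⟩ := C.frame
    let := MulAction.compHom W (ρ.comp M.subtype : M →* Module.End 𝔽 W)
    have hd : 3 ∣ Nat.card W := by
      rw [Module.natCard_eq_pow_finrank (K := 𝔽), Nat.card_zmod]
      refine dvd_pow_self 3 ?_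
      have : Nontrivial W := ⟨⟨_, _, F.s_ne⟩⟩
      exact Module.finrank_pos.ne'
    have h0 : (0 : W) ∈ MulAction.fixedPoints M W := fun m => map_zero (ρ (m : K))
    obtain ⟨w, hw, hne⟩ := (Cores.isPGroup_pCore 3 K).exists_fixed_point_of_prime_dvd_card_of_fixed_point
      W hd h0
    refine hne.symm ?_
    rw [← Submodule.mem_bot 𝔽, ← h]
    exact fun m hm => hw ⟨m, hm⟩
  · refine (Subgroup.eq_bot_iff_forall _).2 fun m hm => C.inj (LinearMap.ext fun w => ?_)
    rw [map_one]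
    exact (h ▸ Submodule.mem_top : w ∈ N) m hm

end Cfsg.Agent.CubicBlock
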