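import Cfsg.Agent.EqLemmas

/-!
# Three-cycles

* `IsCyc`, `cyc_overlap`, `union_le_four`
* `Mono`: signed permutations on four points
-/

set_option autoImplicit false
set_option linter.unusedSectionVars false

namespace Cfsg.Agent.CubicBlock

variable {Ω : Type*}

/-- A permutation is the cycle `(x y z)`. -/
structure IsCyc (a : Equiv.Perm Ω) (x y z : Ω) : Prop where
  xy : a x = y
  yz : a y = z
  zx : a z = x
  rest : ∀ w, w ≠ x → w ≠ y → w ≠ z → a w = w
  nxy : x ≠ y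
  nxz : x ≠ z
  nyz : y ≠ z

theorem IsCyc.rotate {a : Equiv.Perm Ω} {x y z : Ω} (h : IsCyc a x y z) : IsCyc a y z x :=
  ⟨h.yz, h.zx, h.xy, fun w a b c => h.rest w c a b, h.nyz, h.nxy.symm, h.nxz.symm⟩

theorem IsCyc.inv {a : Equiv.Perm Ω} {x y z : Ω} (h : IsCyc a x y z) : IsCyc a⁻¹ z y x where
  xy := by rw [Equiv.Perm.inv_eq_iff_eq, h.yz]
  yz := by rw [Equiv.Perm.inv_eq_iff_eq, h.xy]
  zx := by rw [Equiv.Perm.inv_eq_iff_eq, h.zx]
  rest w a' b c := by rw [Equiv.Perm.inv_eq_iff_eq, h.rest w c b a']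
  nxy := h.nyz.symm
  nxz := h.nxz.symm
  nyz := h.nxy.symm

theorem IsCyc.cube {a : Equiv.Perm Ω} {x y z : Ω} (h : IsCyc a x y z) : a ^ 3 = 1 := by
  refine Equiv.ext fun w => ?_
  simp only [pow_succ, pow_zero, one_mul, Equiv.Perm.mul_apply, Equiv.Perm.one_apply]
  by_cases hx : w = x
  · subst hx; rw [h.xy, h.yz, h.zx]
  by_cases hy : w = y
  · subst hy; rw [h.yz, h.zx, h.xy]
  by_cases hz : w = z
  · subst hz; rw [h.zx, h.xy, h.yz]
  rw [h.rest w hx hy hz, h.rest w hx hy hz, h.rest w hx hy hz]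

theorem IsCyc.ne_one {a : Equiv.Perm Ω} {x y z : Ω} (h : IsCyc a x y z) : a ≠ 1 := fun e => by
  have := h.xy
  rw [e, Equiv.Perm.one_apply] at this
  exact h.nxy this

theorem IsCyc.conj {a : Equiv.Perm Ω} {x y z : Ω} (h : IsCyc a x y z) (p : Equiv.Perm Ω) :
    IsCyc (p * a * p⁻¹) (p x) (p y) (p z) where
  xy := by simp [h.xy]
  yz := by simp [h.yz]
  zx := by simp [h.zx]
  rest w h1 h2 h3 := by
    obtain ⟨v, rfl⟩ := p.surjective w
    simp [h.rest v (fun e => h1 (e ▸ rfl)) (fun e => h2 (e ▸ rfl)) (fun e => h3 (e ▸ rfl))]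
  nxy := p.injective.ne h.nxy
  nxz := p.injective.ne h.nxz
  nyz := p.injective.ne h.nyz

/-- Two cycles meeting in one point. -/
theorem IsCyc.comm_of_one {a a' : Equiv.Perm Ω} {x y z v w : Ω} (h : IsCyc a x y z)
    (h' : IsCyc a' x v w) (d1 : v ≠ y) (d2 : v ≠ z) (d3 : w ≠ y) (d4 : w ≠ z) :
    IsCyc (a * a' * a⁻¹ * a'⁻¹) x y v := by
  have g := h.inv
  have g' := h'.inv
  refine ⟨?_, ?_, ?_, fun t t1 t2 t3 => ?_, h.nxy, h'.nxy, d1.symm⟩
  · simp only [Equiv.Perm.mul_apply]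
    rw [g'.zx, g.rest w d4 d3 h'.nxz.symm, h'.zx, h.xy]
  · simp only [Equiv.Perm.mul_apply]
    rw [g'.rest y d3.symm d1.symm h.nxy.symm, g.yz, h'.xy, h.rest v h'.nxy.symm d1 d2]
  · simp only [Equiv.Perm.mul_apply]
    rw [g'.yz, g.zx, h'.rest z h.nxz.symm d2.symm d4.symm, h.zx]
  · simp only [Equiv.Perm.mul_apply]
    by_cases tw : t = w
    · subst tw
      rw [g'.xy, g.rest v d2 d1 h'.nxy.symm, h'.yz, h.rest _ h'.nxz.symm d3 d4]
    rw [g'.rest t tw t3 t1]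
    by_cases tz : t = z
    · subst tz
      rw [g.xy, h'.rest y h.nxy.symm d1.symm d3.symm, h.yz]
    rw [g.rest t tz t2 t1, h'.rest t t1 t3 tw, h.rest t t1 t2 tz]

/-- Two cycles sharing at most one point give an element of order three. -/
theorem cyc_overlap [DecidableEq Ω] {a a' : Equiv.Perm Ω} {x y z u v w : Ω} (h : IsCyc a x y z)
    (h' : IsCyc a' u v w) (hs : (({x, y, z} : Finset Ω) ∩ {u, v, w}).card ≤ 1) :
    ((a' * a⁻¹) ^ 3 = 1 ∧ a' * a⁻¹ ≠ 1) ∨
      ((a * a' * a⁻¹ * a'⁻¹) ^ 3 = 1 ∧ a * a' * a⁻¹ * a'⁻¹ ≠ 1) := by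
  by_cases h0 : ({x, y, z} : Finset Ω) ∩ {u, v, w} = ∅
  · left
    have hd : ∀ p ∈ ({x, y, z} : Finset Ω), p ∉ ({u, v, w} : Finset Ω) := fun p hp hp' => by
      simpa [h0] using Finset.mem_inter.2 ⟨hp, hp'⟩
    have hm' : ∀ p ∈ ({x, y, z} : Finset Ω), a' p = p := fun p hp => by
      have := hd p hp
      simp only [Finset.mem_insert, Finset.mem_singleton, not_or] at this
      exact h'.rest p this.1 this.2.1 this.2.2
    have hmx : ∀ p, p ∈ ({x, y, z} : Finset Ω) → a p ∈ ({x, y, z} : Finset Ω) := fun p hp => by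
      simp only [Finset.mem_insert, Finset.mem_singleton] at hp
      rcases hp with rfl | rfl | rfl <;> simp [h.xy, h.yz, h.zx]
    have hc : Commute a' a := by
      refine Equiv.ext fun p => ?_
      simp only [Equiv.Perm.mul_apply]
      by_cases hp : p ∈ ({x, y, z} : Finset Ω)
      · rw [hm' p hp, hm' _ (hmx p hp)]
      · have hp2 : a' p ∉ ({x, y, z} : Finset Ω) := fun hq => hp (by
          have := hm' _ hq
          rwa [a'.injective this] at hq)
        simp only [Finset.mem_insert, Finset.mem_singleton, not_or] at hp hp2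
        rw [h.rest p hp.1 hp.2.1 hp.2.2, h.rest _ hp2.1 hp2.2.1 hp2.2.2]
    refine ⟨by rw [hc.inv_right.mul_pow, h'.cube, inv_pow, h.cube, inv_one, one_mul], fun e => ?_⟩
    rw [mul_inv_eq_one] at e
    have := hm' x (by simp)
    rw [e, h.xy] at this
    exact h.nxy this.symm
  · right
    obtain ⟨p, hp⟩ := Finset.card_eq_one.1 (le_antisymm hs (Finset.card_pos.2
      (Finset.nonempty_iff_ne_empty.2 h0)))
    have hp' : p ∈ ({x, y, z} : Finset Ω) ∧ p ∈ ({u, v, w} : Finset Ω) :=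
      Finset.mem_inter.1 (hp ▸ Finset.mem_singleton_self p)
    obtain ⟨y', z', hA, eA⟩ : ∃ y' z', IsCyc a p y' z' ∧ ({x, y, z} : Finset Ω) = {p, y', z'} := by
      simp only [Finset.mem_insert, Finset.mem_singleton] at hp'
      rcases hp'.1 with rfl | rfl | rfl
      · exact ⟨y, z, h, rfl⟩
      · exact ⟨z, x, h.rotate, by ext; simp; tauto⟩
      · exact ⟨x, y, h.rotate.rotate, by ext; simp; tauto⟩
    obtain ⟨v', w', hB, eB⟩ : ∃ v' w', IsCyc a' p v' w' ∧ ({u, v, w} : Finset Ω) = {p, v', w'} := by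
      simp only [Finset.mem_insert, Finset.mem_singleton] at hp'
      rcases hp'.2 with rfl | rfl | rfl
      · exact ⟨v, w, h', rfl⟩
      · exact ⟨w, u, h'.rotate, by ext; simp; tauto⟩
      · exact ⟨u, v, h'.rotate.rotate, by ext; simp; tauto⟩
    rw [eA, eB] at hp
    have hne : ∀ {q r : Ω}, q ∈ ({p, y', z'} : Finset Ω) → r ∈ ({p, v', w'} : Finset Ω) → q ≠ p → r ≠ q := by
      intro q r hq hr hqp e
      subst e
      exact hqp (Finset.mem_singleton.1 (hp ▸ Finset.mem_inter.2 ⟨hq, hr⟩))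
    have hC := hA.comm_of_one hB (hne (by simp) (by simp) hA.nxy.symm) (hne (by simp) (by simp) hA.nxz.symm)
      (hne (by simp) (by simp) hA.nxy.symm) (hne (by simp) (by simp) hA.nxz.symm)
    exact ⟨hC.cube, hC.ne_one⟩

/-- A transitive family of triples meeting pairwise in two points lives on four points. -/
theorem union_le_four [Fintype Ω] [DecidableEq Ω] {a : Equiv.Perm Ω} {x y z : Ω} (h : IsCyc a x y z)
    (F : Set (Finset Ω)) (h0 : {x, y, z} ∈ F) (h3 : ∀ S ∈ F, S.card = 3)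
    (hinv : ∀ S ∈ F, S.map a.toEmbedding ∈ F) (hcov : ∀ p, ∃ S ∈ F, p ∈ S)
    (hint : ∀ S ∈ F, ∀ T ∈ F, 2 ≤ (S ∩ T).card) : Fintype.card Ω ≤ 4 := by
  by_contra hlt
  set S₀ : Finset Ω := {x, y, z} with hS₀
  have hc0 : S₀.card = 3 := h3 _ h0
  obtain ⟨w₁, w₂, hw₁, hw₂, hne⟩ : ∃ w₁ w₂, w₁ ∉ S₀ ∧ w₂ ∉ S₀ ∧ w₁ ≠ w₂ := by
    have : 1 < (Finset.univ \ S₀).card := by
      rw [Finset.card_sdiff, Finset.inter_univ, Finset.card_univ]; omega
    obtain ⟨w₁, h₁, w₂, h₂, hne⟩ := Finset.one_lt_card.1 this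
    exact ⟨w₁, w₂, (Finset.mem_sdiff.1 h₁).2, (Finset.mem_sdiff.1 h₂).2, hne⟩
  have key : ∀ S ∈ F, ∀ q ∈ S, q ∉ S₀ → S.erase q ⊆ S₀ := by
    intro S hS q hq hq0 r hr
    have hsub : S ∩ S₀ ⊆ S.erase q := fun t ht => Finset.mem_erase.2
      ⟨fun e => hq0 (e ▸ (Finset.mem_inter.1 ht).2), (Finset.mem_inter.1 ht).1⟩
    have := Finset.eq_of_subset_of_card_le hsub (by
      rw [Finset.card_erase_of_mem hq, h3 S hS]; exact hint S hS S₀ h0)
    exact (Finset.mem_inter.1 (this ▸ hr)).2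
  have pair : ∀ S ∈ F, ∀ T ∈ F, w₁ ∈ S → w₂ ∈ T → S.erase w₁ = T.erase w₂ := by
    intro S hS T hT h1 h2
    have hsub : S ∩ T ⊆ S.erase w₁ := by
      intro t ht
      refine Finset.mem_erase.2 ⟨fun e => ?_, (Finset.mem_inter.1 ht).1⟩
      exact hw₁ (key T hT w₂ h2 hw₂ (Finset.mem_erase.2 ⟨e ▸ hne, e ▸ (Finset.mem_inter.1 ht).2⟩))
    have hsub' : S ∩ T ⊆ T.erase w₂ := by
      intro t ht
      refine Finset.mem_erase.2 ⟨fun e => ?_, (Finset.mem_inter.1 ht).2⟩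
      exact hw₂ (key S hS w₁ h1 hw₁ (Finset.mem_erase.2 ⟨e ▸ hne.symm, e ▸ (Finset.mem_inter.1 ht).1⟩))
    rw [← Finset.eq_of_subset_of_card_le hsub (by
        rw [Finset.card_erase_of_mem h1, h3 S hS]; exact hint S hS T hT),
      ← Finset.eq_of_subset_of_card_le hsub' (by
        rw [Finset.card_erase_of_mem h2, h3 T hT]; exact hint S hS T hT)]
  obtain ⟨S, hS, h1⟩ := hcov w₁
  obtain ⟨T, hT, h2⟩ := hcov w₂
  have hfix : ∀ q, q ∉ S₀ → a q = q := fun q hq => by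
    simp only [hS₀, Finset.mem_insert, Finset.mem_singleton, not_or] at hq
    exact h.rest q hq.1 hq.2.1 hq.2.2
  have hS' : w₁ ∈ S.map a.toEmbedding := Finset.mem_map.2 ⟨w₁, h1, hfix w₁ hw₁⟩
  have e2 := (pair _ (hinv S hS) T hT hS' h2).trans (pair S hS T hT h1 h2).symm
  have hclosed : ∀ q ∈ S.erase w₁, a q ∈ S.erase w₁ := by
    intro q hq
    rw [← e2]
    obtain ⟨n1, n2⟩ := Finset.mem_erase.1 hq
    exact Finset.mem_erase.2 ⟨fun e => n1 (a.injective (e.trans (hfix w₁ hw₁).symm)),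
      Finset.mem_map.2 ⟨q, n2, rfl⟩⟩
  have hne' : (S.erase w₁).Nonempty := Finset.card_pos.1 (by rw [Finset.card_erase_of_mem h1, h3 S hS]; norm_num)
  obtain ⟨q, hq⟩ := hne'
  have hall : S₀ ⊆ S.erase w₁ := by
    intro t ht
    have hq0 := key S hS w₁ h1 hw₁ hq
    simp only [hS₀, Finset.mem_insert, Finset.mem_singleton] at hq0 ht
    have hq1 := hclosed q hq
    have hq2 := hclosed _ hq1
    rcases hq0 with rfl | rfl | rfl
    · rw [h.xy] at hq1; rw [h.xy, h.yz] at hq2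
      rcases ht with rfl | rfl | rfl <;> assumption
    · rw [h.yz] at hq1; rw [h.yz, h.zx] at hq2
      rcases ht with rfl | rfl | rfl <;> assumption
    · rw [h.zx] at hq1; rw [h.zx, h.xy] at hq2
      rcases ht with rfl | rfl | rfl <;> assumption
  have := Finset.card_le_card hall
  rw [hc0, Finset.card_erase_of_mem h1, h3 S hS] at this
  omega

/-! ### Signed permutations on four points -/

/-- Signed permutations. -/
abbrev Mono := Equiv.Perm (Fin 4) × (Fin 4 → ZMod 3)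

/-- Their product. -/
def Mono.mul (m m' : Mono) : Mono := (m.1 * m'.1, fun i => m.2 (m'.1 i) * m'.2 i)

/-- The identity. -/
def Mono.one : Mono := (1, fun _ => 1)

/-- The central involution. -/
def Mono.neg : Mono := (1, fun _ => -1)

/-- Even involutory permutations with signs of product one. -/
def Mono.Good (m : Mono) : Prop :=
  m.1 * m.1 = 1 ∧ Equiv.Perm.sign m.1 = 1 ∧ (∀ i, m.2 i ≠ 0) ∧ ∏ i, m.2 i = 1

instance : DecidablePred Mono.Good := fun m => by unfold Mono.Good; infer_instance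

/-- The three-cycle. -/
def beta : Equiv.Perm (Fin 4) := Equiv.swap 0 1 * Equiv.swap 1 2

theorem card_good : (Finset.univ.filter Mono.Good).card = 32 := by decide +kernel

theorem good_sq : ∀ m : Mono, m.Good → m.mul m = Mono.one ∨ m.mul m = Mono.neg := by decide +kernel

theorem good_center : ∀ m : Mono, m.Good → (∀ m' : Mono, m'.Good → m.mul m' = m'.mul m) →
    m = Mono.one ∨ m = Mono.neg := by decide +kernel

theorem good_nonabelian : ∃ m : Mono, m.Good ∧ ∃ m' : Mono, m'.Good ∧ m.mul m' ≠ m'.mul m := by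
  decide +kernel

theorem good_neg : Mono.neg.Good ∧ Mono.neg ≠ Mono.one ∧ Mono.neg.mul Mono.neg = Mono.one := by
  decide +kernel

theorem good_diag : (Finset.univ.filter fun m : Mono => m.Good ∧ m.1 = 1).card = 8 ∧
    (∀ m : Mono, m.Good → m.1 = 1 → m.mul m = Mono.one) ∧
    (∀ m m' : Mono, m.1 = 1 → m'.1 = 1 → m.mul m' = m'.mul m) := by
  refine ⟨by decide +kernel, by decide +kernel, fun m m' h h' => ?_⟩
  unfold Mono.mul
  rw [h, h']
  simp [mul_comm]

set_option synthInstance.maxSize 2000 in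
theorem good_perm : ∀ p : Equiv.Perm (Fin 4), ∀ q : Equiv.Perm (Fin 4), p * p = 1 → Equiv.Perm.sign p = 1 →
    p ≠ 1 → q * q = 1 → Equiv.Perm.sign q = 1 → q ≠ 1 →
    q = p ∨ q = beta * p * beta⁻¹ ∨ q = beta * (beta * p * beta⁻¹) * beta⁻¹ := by decide +kernel

/-- Sums of at most two translates of a non-scalar vector exhaust the even vectors. -/
theorem good_translates : ∀ d : Fin 4 → ZMod 3, (∀ i, d i ≠ 0) → ∏ i, d i = 1 → (∃ i j, d i ≠ d j) →
    ∀ t : Fin 4 → ZMod 3, (∀ i, t i ≠ 0) → ∏ i, t i = 1 →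
    ∃ p p' : Equiv.Perm (Fin 4), Equiv.Perm.sign p = 1 ∧ Equiv.Perm.sign p' = 1 ∧
      ((∀ i, t i = d (p i)) ∨ ∀ i, t i = d (p i) * d (p' i)) := by decide +kernel

theorem even_perm_cases : ∀ p : Equiv.Perm (Fin 4), Equiv.Perm.sign p = 1 → p ^ 3 = 1 ∨ p * p = 1 := by
  decide +kernel

theorem even_perm_mem : ∀ p : Equiv.Perm (Fin 4), Equiv.Perm.sign p = 1 →
    ∃ q : Equiv.Perm (Fin 4), q * q = 1 ∧ Equiv.Perm.sign q = 1 ∧
      (p = q ∨ p = q * beta ∨ p = q * (beta * beta)) := by decide +kernel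

theorem three_perm : ∀ p : Equiv.Perm (Fin 3), Equiv.Perm.sign p = 1 → p ^ 3 = 1 := by decide +kernel

theorem three_signs : (Finset.univ.filter fun f : Fin 3 → ZMod 3 => (∀ i, f i ≠ 0) ∧ ∏ i, f i = 1).card = 4 := by
  decide +kernel

end Cfsg.Agent.CubicBlock
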