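import Cfsg.Agent.Lib.CubicBlock.Basic
import Cfsg.Agent.Lib.CubicBlock.Cycle

/-!
# The monomial case

* `Shape`: the conclusion for `R`
* `Core.monomial`: an abelian normal two-subgroup moved by `b`
-/

set_option autoImplicit false
set_option linter.unusedSectionVars false

namespace Cfsg.Agent.CubicBlock

open Module

local notation "𝔽" => ZMod 3

variable {K W : Type*} [Group K] [AddCommGroup W] [Module 𝔽 W] [Finite K] [Finite W]
variable {ρ : Representation 𝔽 K W} {R Q : Subgroup K} {b : K}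

/-- A four-group, or extraspecial of order 32 with an elementary abelian subgroup of order 8. -/
def Shape (R Q : Subgroup K) : Prop :=
  R = Q ∨ (Nat.card R = 32 ∧ ∃ z ∈ R, z ≠ 1 ∧ z * z = 1 ∧ (∀ x ∈ R, x * x = 1 ∨ x * x = z) ∧
    (∀ x ∈ R, (∀ y ∈ R, x * y = y * x) → x = 1 ∨ x = z) ∧ (∀ y ∈ R, z * y = y * z) ∧
    (∃ x ∈ R, ∃ y ∈ R, x * y ≠ y * x) ∧
    ∃ A : Subgroup K, A ≤ R ∧ (∀ x ∈ A, ∀ y ∈ A, x * y = y * x) ∧ (∀ x ∈ A, x * x = 1) ∧ Nat.card A = 8)

/-- The monomial data. -/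
structure Lines (ρ : Representation 𝔽 K W) (R : Subgroup K) (b : K) (n : ℕ) where
  /-- The basis. -/
  e : Basis (Fin n) 𝔽 W
  /-- The permutations of the lines. -/
  π : K →* Equiv.Perm (Fin n)
  /-- The scalars. -/
  s : K → Fin n → 𝔽
  act : ∀ k i, ρ k (e i) = s k i • e (π k i)
  x : Fin n
  y : Fin n
  z : Fin n
  cyc : IsCyc (π b) x y z
  trans : ∀ i, ∃ k, π k x = i
  diag : ∃ a ∈ R, π a = 1 ∧ ∃ i j, s a i ≠ s a j

theorem Core.exists_lines (C : Core ρ R Q b) (A : Subgroup K) (hA : A.Normal) (hA2 : IsPGroup 2 A)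
    (hAc : ∀ x ∈ A, ∀ y ∈ A, x * y = y * x) (hmove : ∃ a ∈ A, b * a ≠ a * b) :
    ∃ n, Nonempty (Lines ρ R b n) := by
  classical
  let A₀ : Subgroup K :=
    { carrier := {a | a ∈ A ∧ a * a = 1}
      one_mem' := ⟨A.one_mem, one_mul 1⟩
      mul_mem' := fun {x y} hx hy => ⟨A.mul_mem hx.1 hy.1, by
        rw [mul_assoc, ← mul_assoc y x y, hAc y hy.1 x hx.1, mul_assoc, hy.2, mul_one, hx.2]⟩
      inv_mem' := fun {x} hx => ⟨A.inv_mem hx.1, by rw [← mul_inv_rev, hx.2, inv_one]⟩ }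
  have hA₀n : ∀ k, ∀ a ∈ A₀, k * a * k⁻¹ ∈ A₀ := fun k a ha => ⟨hA.conj_mem a ha.1 k, by
    rw [show k * a * k⁻¹ * (k * a * k⁻¹) = k * (a * a) * k⁻¹ by group, ha.2]; group⟩
  have hmove₀ : ∃ a ∈ A₀, b * a ≠ a * b := by
    by_contra hno
    push Not at hno
    have key : ∀ m : ℕ, ∀ a ∈ A, a ^ 2 ^ m = 1 → b * a = a * b := by
      intro m
      induction m with
      | zero => intro a _ h; rw [pow_zero, pow_one] at h; rw [h, mul_one, one_mul]
      | succ m ih =>
        intro a ha h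
        have h2 : b * (a * a) = (a * a) * b :=
          ih _ (A.mul_mem ha ha) (by rw [← pow_two, ← pow_mul, ← pow_succ']; exact h)
        set d := b * a * b⁻¹ * a⁻¹ with hd
        have hdA : d ∈ A := A.mul_mem (hA.conj_mem a ha b) (A.inv_mem ha)
        have hd2 : d * d = 1 := by
          rw [hd]
          have hc : a⁻¹ * (b * a * b⁻¹) = (b * a * b⁻¹) * a⁻¹ :=
            hAc _ (A.inv_mem ha) _ (hA.conj_mem a ha b)
          calc b * a * b⁻¹ * a⁻¹ * (b * a * b⁻¹ * a⁻¹)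
              = b * a * b⁻¹ * (a⁻¹ * (b * a * b⁻¹)) * a⁻¹ := by group
            _ = b * (a * a) * b⁻¹ * (a * a)⁻¹ := by rw [hc]; group
            _ = 1 := by rw [h2]; group
        have hdb : b * d = d * b := hno d ⟨hdA, hd2⟩
        have hba : b * a * b⁻¹ = d * a := by rw [hd]; group
        have h3 : d * (d * (d * a)) = a := by
          have e1 : b * (d * a) * b⁻¹ = d * (d * a) := by
            calc b * (d * a) * b⁻¹ = (b * d) * a * b⁻¹ := by group
              _ = d * (b * a * b⁻¹) := by rw [hdb]; group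
              _ = _ := by rw [hba]
          have e2 : b * (d * (d * a)) * b⁻¹ = d * (d * (d * a)) := by
            calc b * (d * (d * a)) * b⁻¹ = (b * d) * (d * a) * b⁻¹ := by group
              _ = d * (b * (d * a) * b⁻¹) := by rw [hdb]; group
              _ = _ := by rw [e1]
          rw [← e2, ← e1, ← hba]
          calc b * (b * (b * a * b⁻¹) * b⁻¹) * b⁻¹ = b ^ 3 * a * (b ^ 3)⁻¹ := by
                rw [pow_succ b 2, pow_two]; group
            _ = a := by rw [C.cube]; group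
        rw [← mul_assoc, hd2, one_mul, mul_eq_right] at h3
        rw [h3, one_mul, mul_inv_eq_iff_eq_mul] at hba
        exact hba
    obtain ⟨a, ha, hab⟩ := hmove
    obtain ⟨m, hm⟩ := hA2 ⟨a, ha⟩
    refine hab (key m a ha ?_)
    have := congrArg Subtype.val hm
    rwa [Subgroup.coe_pow, Subgroup.coe_one] at this
  have hA₀R : ∀ a ∈ A₀, a ∈ R := fun a ha => C.mem_of_coprime (m := 2) (by rw [pow_two, ha.2]) (by norm_num)
  have hA₀c : ∀ a c : A₀, (a : K) * c = c * a := fun a c => hAc _ a.2.1 _ c.2.1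
  -- eigenspaces
  let E : (A₀ → 𝔽) → Submodule 𝔽 W := fun χ =>
    { carrier := {w | ∀ a : A₀, ρ (a : K) w = χ a • w}
      zero_mem' := fun a => by rw [map_zero, smul_zero]
      add_mem' := fun {u v} hu hv a => by rw [map_add, hu a, hv a, smul_add]
      smul_mem' := fun t w hw a => by rw [map_smul, hw a, smul_comm] }
  obtain ⟨χ₀, w₀, hw₀0, hw₀⟩ : ∃ χ : A₀ → 𝔽, ∃ w ≠ (0 : W), w ∈ E χ := by
    have key : ∀ S : Finset A₀, ∃ w ≠ (0 : W), ∀ a ∈ S, ∃ t : 𝔽, ρ (a : K) w = t • w := by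
      intro S
      induction S using Finset.induction with
      | empty =>
        obtain ⟨F⟩ := C.frame
        exact ⟨F.s, F.s_ne, by simp⟩
      | insert a S _ ih =>
        obtain ⟨w, hw0, hw⟩ := ih
        have ha2 : ρ (a : K) (ρ (a : K) w) = w := by rw [← mul_apply, a.2.2, one_apply]
        by_cases h : w + ρ (a : K) w = 0
        · refine ⟨w, hw0, fun c hc => ?_⟩
          rcases Finset.mem_insert.1 hc with rfl | hc
          · exact ⟨-1, by rw [neg_one_smul]; exact eq_neg_of_add_eq_zero_right h⟩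
          · exact hw c hc
        · refine ⟨_, h, fun c hc => ?_⟩
          rcases Finset.mem_insert.1 hc with rfl | hc
          · exact ⟨1, by rw [map_add, ha2, one_smul, add_comm]⟩
          · obtain ⟨t, ht⟩ := hw c hc
            exact ⟨t, by rw [map_add, ← mul_apply, hA₀c c a, mul_apply, ht, map_smul, smul_add]⟩
    have := Fintype.ofFinite A₀
    obtain ⟨w, hw0, hw⟩ := key Finset.univ
    choose t ht using fun a => hw a (Finset.mem_univ a)
    exact ⟨t, w, hw0, ht⟩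
  let Ω := {χ : A₀ → 𝔽 // E χ ≠ ⊥}
  have := Fintype.ofFinite A₀
  have := Fintype.ofFinite Ω
  have hwit : ∀ χ : Ω, ∃ u ∈ E χ.1, u ≠ 0 := fun χ => (Submodule.ne_bot_iff _).1 χ.2
  have hhom : ∀ (χ : Ω) (a c : A₀), χ.1 (a * c) = χ.1 a * χ.1 c := by
    intro χ a c
    obtain ⟨u, hu, hu0⟩ := hwit χ
    refine smul_left_injective 𝔽 hu0 ?_
    show χ.1 (a * c) • u = (χ.1 a * χ.1 c) • u
    rw [← hu, Subgroup.coe_mul, mul_apply, hu c, map_smul, hu a, smul_smul, mul_comm]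
  have hsq : ∀ (χ : Ω) (a : A₀), χ.1 a * χ.1 a = 1 := by
    intro χ a
    obtain ⟨u, hu, hu0⟩ := hwit χ
    refine smul_left_injective 𝔽 hu0 ?_
    show (χ.1 a * χ.1 a) • u = (1 : 𝔽) • u
    rw [← hhom, ← hu, Subgroup.coe_mul, a.2.2, one_apply, one_smul]
  -- projections
  let P : Ω → (W →ₗ[𝔽] W) := fun χ => ∑ a : A₀, χ.1 a • ρ (a : K)
  have hPu : ∀ (χ ψ : Ω), ∀ u ∈ E ψ.1, P χ u = (∑ a : A₀, χ.1 a * ψ.1 a) • u := by
    intro χ ψ u hu
    simp only [P, LinearMap.sum_apply, LinearMap.smul_apply, hu, smul_smul, Finset.sum_smul]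
    exact Finset.sum_congr rfl fun a _ => by rw [hu a, smul_smul]
  have hcA : (Fintype.card A₀ : 𝔽) ≠ 0 := by
    rw [← Nat.card_eq_fintype_card]
    refine fun h0 => ?_
    rw [ZMod.natCast_eq_zero_iff] at h0
    have hle : A₀ ≤ R := hA₀R
    have h3 := Nat.dvd_gcd (h0.trans (Subgroup.card_dvd_of_le hle)) (dvd_refl 3)
    rw [C.cop] at h3
    norm_num at h3
  have hP : ∀ (χ ψ : Ω), ∀ u ∈ E ψ.1, P χ u = if χ = ψ then (Fintype.card A₀ : 𝔽) • u else 0 := by
    intro χ ψ u hu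
    rw [hPu χ ψ u hu]
    split_ifs with h
    · subst h
      rw [Finset.sum_congr rfl (fun a _ => hsq χ a), Finset.sum_const, Finset.card_univ, nsmul_eq_mul, mul_one]
    · obtain ⟨a, ha⟩ := Function.ne_iff.1 (fun e => h (Subtype.ext e) : χ.1 ≠ ψ.1)
      have hm : χ.1 a * ψ.1 a = -1 := by
        have h1 := hsq χ a
        have h2 := hsq ψ a
        revert ha h1 h2
        generalize χ.1 a = p
        generalize ψ.1 a = q
        revert p q
        decide
      have : (∑ c : A₀, χ.1 c * ψ.1 c) = -∑ c : A₀, χ.1 c * ψ.1 c := by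
        conv_lhs => rw [← Equiv.sum_comp (Equiv.mulLeft a)]
        rw [← Finset.sum_neg_distrib]
        refine Finset.sum_congr rfl fun c _ => ?_
        rw [Equiv.coe_mulLeft, hhom, hhom]
        calc χ.1 a * χ.1 c * (ψ.1 a * ψ.1 c) = (χ.1 a * ψ.1 a) * (χ.1 c * ψ.1 c) := by ring
          _ = _ := by rw [hm]; ring
      rw [(by decide : ∀ S : 𝔽, S = -S → S = 0) _ this, zero_smul]
  have hne : ∀ (χ : Ω) {u : W}, (Fintype.card A₀ : 𝔽) • u = 0 → u = 0 := fun _ u h =>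
    (smul_eq_zero.1 h).resolve_left hcA
  -- the action on the characters
  let tc : K → A₀ → A₀ := fun k a => ⟨k⁻¹ * a * k, by
    have := hA₀n k⁻¹ a a.2; rwa [inv_inv] at this⟩
  have htw : ∀ (k : K) (χ : A₀ → 𝔽), ∀ u ∈ E χ, ρ k u ∈ E (fun a => χ (tc k a)) := by
    intro k χ u hu a
    have h := hu (tc k a)
    rw [← mul_apply, show (a : K) * k = k * (k⁻¹ * a * k) by group, mul_apply,
      show ρ (k⁻¹ * (a : K) * k) u = χ (tc k a) • u from h, map_smul]
  have htwne : ∀ (k : K) (χ : Ω), E (fun a => χ.1 (tc k a)) ≠ ⊥ := fun k χ => by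
    obtain ⟨u, hu, hu0⟩ := hwit χ
    exact (Submodule.ne_bot_iff _).2 ⟨_, htw k _ u hu, fun h => hu0 (apply_injective ρ k (h.trans (map_zero _).symm))⟩
  let tw : K → Ω → Ω := fun k χ => ⟨fun a => χ.1 (tc k a), htwne k χ⟩
  have htc : ∀ k l a, tc l (tc k a) = tc (k * l) a := fun k l a => Subtype.ext (by
    show l⁻¹ * (k⁻¹ * (a : K) * k) * l = (k * l)⁻¹ * a * (k * l); group)
  have tw_mul : ∀ k l χ, tw (k * l) χ = tw k (tw l χ) := fun k l χ => Subtype.ext (funext fun a => by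
    show χ.1 (tc (k * l) a) = χ.1 (tc l (tc k a))
    rw [htc])
  have tw_one : ∀ χ, tw 1 χ = χ := fun χ => Subtype.ext (funext fun a => by
    show χ.1 (tc 1 a) = χ.1 a
    exact congrArg χ.1 (Subtype.ext (by show (1 : K)⁻¹ * a * 1 = a; group)))
  let π₀ : K →* Equiv.Perm Ω :=
    { toFun := fun k => ⟨tw k, tw k⁻¹, fun χ => by rw [← tw_mul, inv_mul_cancel, tw_one],
        fun χ => by rw [← tw_mul, mul_inv_cancel, tw_one]⟩
      map_one' := Equiv.ext tw_one
      map_mul' := fun k l => Equiv.ext (tw_mul k l) }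
  have hmem : ∀ (k : K) (χ : Ω), ∀ u ∈ E χ.1, ρ k u ∈ E (π₀ k χ).1 := fun k χ u hu => htw k _ u hu
  have hspan : ∀ N : Submodule 𝔽 W, (∀ χ : Ω, E χ.1 ≤ N) → N = ⊤ := by
    intro N hN
    rcases C.irr (⨆ χ : Ω, E χ.1) (fun k w hw => by
      refine Submodule.iSup_induction (motive := fun w => ρ k w ∈ ⨆ χ : Ω, E χ.1) _ hw
        (fun χ u hu => Submodule.mem_iSup_of_mem (π₀ k χ) (hmem k χ u hu)) ?_ fun u v hu hv => ?_
      · rw [map_zero]; exact Submodule.zero_mem _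
      · rw [map_add]; exact Submodule.add_mem _ hu hv) with h | h
    · refine absurd ?_ hw₀0
      have hχ : E χ₀ ≠ ⊥ := (Submodule.ne_bot_iff _).2 ⟨w₀, hw₀, hw₀0⟩
      rw [← Submodule.mem_bot 𝔽, ← h]
      exact Submodule.mem_iSup_of_mem (⟨χ₀, hχ⟩ : Ω) hw₀
    · exact top_le_iff.1 (h ▸ iSup_le hN)
  obtain ⟨x, hx⟩ : ∃ x, π₀ b x ≠ x := by
    by_contra hno
    push Not at hno
    obtain ⟨a, ha, hab⟩ := hmove₀
    refine hab (C.inj ?_)
    let N : Submodule 𝔽 W := LinearMap.ker (ρ (b * a) - ρ (a * b))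
    have hN := hspan N fun χ u hu => by
      simp only [N, LinearMap.mem_ker, LinearMap.sub_apply, sub_eq_zero]
      have h1 : ρ b u ∈ E χ.1 := by have := hmem b χ u hu; rwa [hno] at this
      rw [mul_apply, mul_apply, hu ⟨a, ha⟩, h1 ⟨a, ha⟩, map_smul]
    refine LinearMap.ext fun w => ?_
    have : w ∈ N := hN ▸ Submodule.mem_top
    simpa [N, sub_eq_zero] using this
  set y := π₀ b x with hy
  set z := π₀ b y with hz
  have hbz : π₀ b z = x := by
    rw [hz, hy, ← Equiv.Perm.mul_apply, ← Equiv.Perm.mul_apply, ← map_mul, ← map_mul,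
      show b * b * b = b ^ 3 by simp [pow_succ], C.cube, map_one, Equiv.Perm.one_apply]
  have nxy : x ≠ y := Ne.symm hx
  have nyz : y ≠ z := fun e => nxy ((π₀ b).injective e)
  have nxz : x ≠ z := fun e => by
    rw [← e] at hbz
    exact hx hbz
  let N : W →ₗ[𝔽] W := ρ b - 1
  have hN : ∀ w, N w = ρ b w - w := fun w => rfl
  let φ : E x.1 × E x.1 →ₗ[𝔽] LinearMap.range N :=
    LinearMap.coprod ((N.rangeRestrict).comp (Submodule.subtype _))
      ((N.rangeRestrict).comp ((ρ b).comp (Submodule.subtype _)))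
  have hφv : ∀ p : E x.1 × E x.1, (φ p : W) = (ρ b (p.1 : W) - p.1) + (ρ b (ρ b (p.2 : W)) - ρ b p.2) :=
    fun p => rfl
  have hm1 : ∀ u ∈ E x.1, ρ b u ∈ E y.1 := fun u hu => hmem b x u hu
  have hm2 : ∀ u ∈ E x.1, ρ b (ρ b u) ∈ E z.1 := fun u hu => hmem b y _ (hm1 u hu)
  have hPx : ∀ p, P x (φ p : W) = -((Fintype.card A₀ : 𝔽) • (p.1 : W)) := fun p => by
    rw [hφv, map_add, map_sub, map_sub, hP x y _ (hm1 _ p.1.2), hP x x _ p.1.2,
      hP x z _ (hm2 _ p.2.2), hP x y _ (hm1 _ p.2.2), if_neg nxy, if_pos rfl, if_neg nxz, if_neg nxy]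
    abel
  have hPz : ∀ p, P z (φ p : W) = (Fintype.card A₀ : 𝔽) • ρ b (ρ b (p.2 : W)) := fun p => by
    rw [hφv, map_add, map_sub, map_sub, hP z y _ (hm1 _ p.1.2), hP z x _ p.1.2,
      hP z z _ (hm2 _ p.2.2), hP z y _ (hm1 _ p.2.2), if_neg nyz.symm, if_neg nxz.symm, if_pos rfl, if_neg nyz.symm]
    abel
  have hφinj : Function.Injective φ := by
    rw [injective_iff_map_eq_zero]
    intro p hp
    have h1 := hPx p
    have h2 := hPz p
    rw [hp, Submodule.coe_zero, map_zero] at h1 h2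
    have e1 : (p.1 : W) = 0 := hne x (neg_eq_zero.1 h1.symm)
    have e2 : (p.2 : W) = 0 := by
      have := hne x h2.symm
      exact apply_injective ρ b (apply_injective ρ b (by rw [this, map_zero, map_zero]))
    exact Prod.ext (Subtype.ext e1) (Subtype.ext e2)
  have hrk : finrank 𝔽 (LinearMap.range N) ≤ 2 := C.rank
  have hle := LinearMap.finrank_le_finrank_of_injective hφinj
  rw [Module.finrank_prod] at hle
  have hd1 : finrank 𝔽 (E x.1) = 1 := by
    have h1 : finrank 𝔽 (E x.1) ≠ 0 := fun h => x.2 (Submodule.finrank_eq_zero.1 h)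
    omega
  have hsurj : Function.Surjective φ := (LinearMap.injective_iff_surjective_of_finrank_eq_finrank
    (le_antisymm (LinearMap.finrank_le_finrank_of_injective hφinj)
      (by rw [Module.finrank_prod, hd1]; exact hrk))).1 hφinj
  have hfixo : ∀ ψ, ψ ≠ x → ψ ≠ y → ψ ≠ z → π₀ b ψ = ψ := by
    intro ψ n1 n2 n3
    by_contra hmv
    obtain ⟨u, hu, hu0⟩ := hwit ψ
    obtain ⟨p, hp⟩ := hsurj ⟨N u, u, rfl⟩
    have h0 : ∀ χ, χ ≠ x → χ ≠ y → χ ≠ z → P χ (φ p : W) = 0 := fun χ m1 m2 m3 => by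
      rw [hφv, map_add, map_sub, map_sub, hP χ y _ (hm1 _ p.1.2), hP χ x _ p.1.2,
        hP χ z _ (hm2 _ p.2.2), hP χ y _ (hm1 _ p.2.2), if_neg m2, if_neg m1, if_neg m3, if_neg m2]
      abel
    have h := h0 ψ n1 n2 n3
    rw [show (φ p : W) = N u from congrArg Subtype.val hp, hN, map_sub, hP ψ (π₀ b ψ) _ (hmem b ψ u hu), hP ψ ψ u hu, if_neg (Ne.symm hmv),
      if_pos rfl, zero_sub, neg_eq_zero] at h
    exact hu0 (hne x h)
  have htrans : ∀ ψ, ∃ k, π₀ k x = ψ := by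
    intro ψ
    by_contra hno
    push Not at hno
    obtain ⟨u, hu, hu0⟩ := hwit ψ
    have hinv : ∀ k, ∀ w ∈ (⨆ k : K, E (π₀ k x).1), ρ k w ∈ ⨆ k : K, E (π₀ k x).1 := fun k w hw => by
      refine Submodule.iSup_induction (motive := fun w => ρ k w ∈ ⨆ k : K, E (π₀ k x).1) _ hw
        (fun l v hv => Submodule.mem_iSup_of_mem (k * l) ?_) ?_ fun v v' hv hv' => ?_
      · rw [map_mul, Equiv.Perm.mul_apply]; exact hmem k _ v hv
      · rw [map_zero]; exact Submodule.zero_mem _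
      · rw [map_add]; exact Submodule.add_mem _ hv hv'
    rcases C.irr _ hinv with h | h
    · refine x.2 (le_bot_iff.1 ?_)
      intro v hv
      have hv' : v ∈ ⨆ k : K, E (π₀ k x).1 := Submodule.mem_iSup_of_mem 1 (by rw [map_one]; exact hv)
      rwa [h] at hv'
    · have hu' : u ∈ ⨆ k : K, E (π₀ k x).1 := h ▸ Submodule.mem_top
      have : P ψ u = 0 := Submodule.iSup_induction (motive := fun w => P ψ w = 0) _ hu'
        (fun l v hv => by rw [hP ψ _ v hv, if_neg (Ne.symm (hno l))]) (map_zero _)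
        (fun v v' hv hv' => by rw [map_add, hv, hv', add_zero])
      rw [hP ψ ψ u hu, if_pos rfl] at this
      exact hu0 (hne x this)
  have hd : ∀ ψ : Ω, finrank 𝔽 (E ψ.1) = 1 := by
    intro ψ
    obtain ⟨k, hk⟩ := htrans ψ
    have h1 : finrank 𝔽 (E ψ.1) ≠ 0 := fun h => ψ.2 (Submodule.finrank_eq_zero.1 h)
    have hle : (E ψ.1).map (ρ k⁻¹) ≤ E x.1 := by
      rintro _ ⟨v, hv, rfl⟩
      have := hmem k⁻¹ ψ v hv
      rwa [← hk, ← Equiv.Perm.mul_apply, ← map_mul, inv_mul_cancel, map_one] at this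
    have := Submodule.finrank_mono hle
    rw [hd1, ← (Submodule.equivMapOfInjective _ (apply_injective ρ k⁻¹) _).finrank_eq] at this
    omega
  choose ev hev hev0 using hwit
  have hline : ∀ (ψ : Ω), ∀ v ∈ E ψ.1, ∃ t : 𝔽, t • ev ψ = v := fun ψ v hv => by
    obtain ⟨t, ht⟩ := (finrank_eq_one_iff_of_nonzero' (⟨ev ψ, hev ψ⟩ : E ψ.1)
      (fun h => hev0 ψ (congrArg Subtype.val h))).1 (hd ψ) ⟨v, hv⟩
    exact ⟨t, congrArg Subtype.val ht⟩
  have hli : LinearIndependent 𝔽 ev := Fintype.linearIndependent_iff.2 fun g hg χ => by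
    have := congrArg (P χ) hg
    rw [map_sum, map_zero, Finset.sum_eq_single χ (fun ψ _ hψ => by
      rw [map_smul, hP χ ψ _ (hev ψ), if_neg (Ne.symm hψ), smul_zero]) (fun h => absurd (Finset.mem_univ _) h),
      map_smul, hP χ χ _ (hev χ), if_pos rfl, smul_eq_zero, smul_eq_zero] at this
    exact this.resolve_right (not_or.2 ⟨hcA, hev0 χ⟩)
  have hsp : ⊤ ≤ Submodule.span 𝔽 (Set.range ev) := (hspan _ fun χ v hv => by
    obtain ⟨t, rfl⟩ := hline χ v hv
    exact Submodule.smul_mem _ _ (Submodule.subset_span ⟨χ, rfl⟩)).ge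
  let B := Basis.mk hli hsp
  have hB : ∀ χ, B χ = ev χ := fun χ => Basis.mk_apply hli hsp χ
  choose s₀ hs₀ using fun (k : K) (χ : Ω) => hline _ _ (hmem k χ _ (hev χ))
  let σ := Fintype.equivFin Ω
  let π₁ : K →* Equiv.Perm (Fin (Fintype.card Ω)) := σ.permCongrHom.toMonoidHom.comp π₀
  have hπ : ∀ k i, π₁ k i = σ (π₀ k (σ.symm i)) := fun k i => rfl
  have hev' : ∀ i, B.reindex σ i = ev (σ.symm i) := fun i => by rw [Basis.reindex_apply, hB]
  have hcyc : IsCyc (π₁ b) (σ x) (σ y) (σ z) :=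
    { xy := by rw [hπ, Equiv.symm_apply_apply]
      yz := by rw [hπ, Equiv.symm_apply_apply]
      zx := by rw [hπ, Equiv.symm_apply_apply, hbz]
      rest := fun w h1 h2 h3 => by
        obtain ⟨v, rfl⟩ := σ.surjective w
        rw [hπ, Equiv.symm_apply_apply, hfixo v (fun e => h1 (e ▸ rfl)) (fun e => h2 (e ▸ rfl))
          (fun e => h3 (e ▸ rfl))]
      nxy := σ.injective.ne nxy
      nxz := σ.injective.ne nxz
      nyz := σ.injective.ne nyz }
  obtain ⟨a, ha⟩ := Function.ne_iff.1 (fun e => nxy (Subtype.ext e) : x.1 ≠ y.1)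
  have hπa : π₀ (a : K) = 1 := Equiv.ext fun ψ => Subtype.ext (funext fun c => by
    show ψ.1 (tc (a : K) c) = ψ.1 c
    exact congrArg ψ.1 (Subtype.ext (by show (a : K)⁻¹ * c * a = c; rw [mul_assoc, hA₀c c a, inv_mul_cancel_left])))
  have hsa : ∀ ψ : Ω, s₀ (a : K) ψ = ψ.1 a := fun ψ => smul_left_injective 𝔽 (hev0 ψ) (by
    show s₀ (a : K) ψ • ev ψ = ψ.1 a • ev ψ
    have h := hs₀ (a : K) ψ
    rw [hπa, Equiv.Perm.one_apply, hev ψ a] at h
    exact h)
  refine ⟨Fintype.card Ω, ⟨⟨B.reindex σ, π₁, fun k i => s₀ k (σ.symm i), fun k i => ?_, σ x, σ y, σ z,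
    hcyc, fun i => ?_, (a : K), hA₀R _ a.2, ?_, σ x, σ y, ?_⟩⟩⟩
  · rw [hev', hev', hπ, Equiv.symm_apply_apply]
    exact (hs₀ k (σ.symm i)).symm
  · obtain ⟨k, hk⟩ := htrans (σ.symm i)
    exact ⟨k, by rw [hπ, Equiv.symm_apply_apply, hk, Equiv.apply_symm_apply]⟩
  · refine Equiv.ext fun i => ?_
    rw [hπ, hπa, Equiv.Perm.one_apply, Equiv.apply_symm_apply, Equiv.Perm.one_apply]
  · show s₀ _ (σ.symm (σ x)) ≠ s₀ _ (σ.symm (σ y))
    rw [Equiv.symm_apply_apply, Equiv.symm_apply_apply, hsa, hsa]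
    exact ha

variable {n : ℕ} (L : Lines ρ R b n)

theorem Lines.s_mul (k l : K) (i : Fin n) : L.s (k * l) i = L.s k (L.π l i) * L.s l i := by
  have h := L.act (k * l) i
  rw [mul_apply, L.act l i, map_smul, L.act k, smul_smul, ← Equiv.Perm.mul_apply, ← map_mul] at h
  have := smul_left_injective 𝔽 (L.e.ne_zero _) h
  rw [← this, mul_comm]

theorem Lines.s_ne (k : K) (i : Fin n) : L.s k i ≠ 0 := fun h => by
  have := L.act k i
  rw [h, zero_smul] at this
  exact L.e.ne_zero i (apply_injective ρ k (this.trans (map_zero _).symm))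

theorem Lines.inj (C : Core ρ R Q b) {k l : K} (hπ : L.π k = L.π l) (hs : ∀ i, L.s k i = L.s l i) :
    k = l :=
  C.inj (L.e.ext fun i => by rw [L.act, L.act, hπ, hs])

theorem Lines.parity (C : Core ρ R Q b) (k : K) : ∏ i, L.s k i = 1 := by
  let f : K →* 𝔽 :=
    { toFun := fun k => ∏ i, L.s k i
      map_one' := Finset.prod_eq_one fun i _ => by
        have := L.act 1 i
        rw [one_apply, map_one, Equiv.Perm.one_apply] at this
        exact (smul_left_injective 𝔽 (L.e.ne_zero i) ((one_smul 𝔽 _).trans this)).symm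
      map_mul' := fun k l => by
        simp only [L.s_mul, Finset.prod_mul_distrib]
        rw [Equiv.prod_comp (L.π l) (L.s k)] }
  have hb : f b = 1 := (by decide : ∀ t : 𝔽, t ^ 3 = 1 → t = 1) _ (by rw [← map_pow, C.cube, map_one])
  have : k ∈ f.ker := C.gen f.ker inferInstance (MonoidHom.mem_ker.2 hb) ▸ Subgroup.mem_top k
  exact MonoidHom.mem_ker.1 this

theorem Lines.sign (C : Core ρ R Q b) (k : K) : Equiv.Perm.sign (L.π k) = 1 := by
  let f : K →* ℤˣ := Equiv.Perm.sign.comp L.π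
  have hb : f b = 1 := by
    have h : f b ^ 3 = 1 := by rw [← map_pow, C.cube, map_one]
    rcases Int.units_eq_one_or (f b) with e | e
    · exact e
    · rw [e] at h; exact absurd h (by decide)
  have : k ∈ f.ker := C.gen f.ker inferInstance (MonoidHom.mem_ker.2 hb) ▸ Subgroup.mem_top k
  exact MonoidHom.mem_ker.1 this

theorem Lines.cube_eq_one (C : Core ρ R Q b) {r : K} (hr : r ∈ R) (h : L.π r ^ 3 = 1) : L.π r = 1 := by
  have h1 : L.π r ^ Nat.card R = 1 := by
    rw [← map_pow]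
    have := congrArg Subtype.val (pow_card_eq_one' (x := (⟨r, hr⟩ : R)))
    rw [Subgroup.coe_pow, Subgroup.coe_one] at this
    rw [this, map_one]
  have := pow_gcd_eq_one.2 ⟨h1, h⟩
  rwa [C.cop, pow_one] at this

theorem Lines.le_four {n : ℕ} (L : Lines ρ R b n) (C : Core ρ R Q b) : n ≤ 4 := by
  classical
  have hR := C.normal
  have hq : ∀ k : K, k * b * k⁻¹ * b⁻¹ ∈ R := by
    intro k
    obtain ⟨r, hr, i, rfl⟩ := C.cases k
    rw [show r * b ^ i * b * (r * b ^ i)⁻¹ * b⁻¹ = r * (b * r⁻¹ * b⁻¹) by group]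
    exact mul_mem hr (hR.conj_mem _ (inv_mem hr) b)
  let F : Set (Finset (Fin n)) := Set.range fun k : K => ({L.π k L.x, L.π k L.y, L.π k L.z} : Finset (Fin n))
  have hcard : ∀ k, ({L.π k L.x, L.π k L.y, L.π k L.z} : Finset (Fin n)).card = 3 := fun k => by
    have h := L.cyc.conj (L.π k)
    rw [Finset.card_insert_of_notMem (by simp [h.nxy, h.nxz]), Finset.card_pair h.nyz]
  have h := union_le_four L.cyc F ⟨1, by simp⟩ (by rintro _ ⟨k, rfl⟩; exact hcard k) ?_ ?_ ?_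
  · rwa [Fintype.card_fin] at h
  · rintro _ ⟨k, rfl⟩
    refine ⟨b * k, ?_⟩
    simp [map_mul, Equiv.Perm.mul_apply]
  · intro p
    obtain ⟨k, hk⟩ := L.trans p
    exact ⟨_, ⟨k, rfl⟩, by simp [hk]⟩
  · rintro _ ⟨k, rfl⟩ _ ⟨l, rfl⟩
    by_contra hlt
    simp only at hlt
    have hk := L.cyc.conj (L.π k)
    have hl := L.cyc.conj (L.π l)
    rw [← map_inv, ← map_mul, ← map_mul] at hk hl
    have hm1 : l * b * l⁻¹ * (k * b * k⁻¹)⁻¹ ∈ R := by
      rw [show l * b * l⁻¹ * (k * b * k⁻¹)⁻¹ = (l * b * l⁻¹ * b⁻¹) * (k * b * k⁻¹ * b⁻¹)⁻¹ by group]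
      exact mul_mem (hq l) (inv_mem (hq k))
    have hm2 : k * b * k⁻¹ * (l * b * l⁻¹) * (k * b * k⁻¹)⁻¹ * (l * b * l⁻¹)⁻¹ ∈ R := by
      rw [show k * b * k⁻¹ * (l * b * l⁻¹) * (k * b * k⁻¹)⁻¹ * (l * b * l⁻¹)⁻¹ =
        (k * b * k⁻¹) * (l * b * l⁻¹ * (k * b * k⁻¹)⁻¹) * (k * b * k⁻¹)⁻¹ *
          ((l * b * l⁻¹) * (k * b * k⁻¹)⁻¹)⁻¹ by group]
      exact mul_mem (hR.conj_mem _ hm1 _) (inv_mem hm1)
    rcases cyc_overlap hk hl (by omega) with ⟨e1, e2⟩ | ⟨e1, e2⟩
    · rw [← map_inv, ← map_mul] at e1 e2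
      exact e2 (L.cube_eq_one C hm1 e1)
    · rw [← map_inv, ← map_inv, ← map_mul, ← map_mul, ← map_mul] at e1 e2
      exact e2 (L.cube_eq_one C hm2 e1)

theorem Lines.shape_three (C : Core ρ R Q b) (L : Lines ρ R b 3) : Shape R Q := by
  classical
  left
  have hdiag : ∀ r ∈ R, L.π r = 1 := fun r hr => L.cube_eq_one C hr (three_perm _ (L.sign C r))
  let f : R → {g : Fin 3 → 𝔽 // g ∈ Finset.univ.filter fun g : Fin 3 → 𝔽 => (∀ i, g i ≠ 0) ∧ ∏ i, g i = 1} :=
    fun r => ⟨L.s r, Finset.mem_filter.2 ⟨Finset.mem_univ _, L.s_ne _, L.parity C _⟩⟩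
  have hf : Function.Injective f := fun r r' h => Subtype.ext (L.inj C
    ((hdiag r r.2).trans (hdiag r' r'.2).symm) (congrFun (congrArg Subtype.val h)))
  have h := Nat.card_le_card_of_injective f hf
  rw [Nat.card_eq_finsetCard, three_signs] at h
  exact (Subgroup.eq_of_le_of_card_ge C.le (by rw [C.card]; exact h)).symm

theorem Lines.shape_four (C : Core ρ R Q b) (L : Lines ρ R b 4) (h0 : L.π b = beta) : Shape R Q := by
  classical
  right
  have hR := C.normal
  let τ : K → Mono := fun k => (L.π k, L.s k)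
  have hτmul : ∀ k l, τ (k * l) = (τ k).mul (τ l) := fun k l =>
    Prod.ext (map_mul L.π k l) (funext fun i => L.s_mul k l i)
  have hτ1 : τ 1 = Mono.one := Prod.ext (map_one L.π) (funext fun i => by
    have h := L.s_mul 1 1 i
    rw [mul_one, map_one, Equiv.Perm.one_apply] at h
    exact ((mul_eq_left₀ (L.s_ne 1 i)).1 h.symm))
  have hτinj : ∀ {k l}, τ k = τ l → k = l := fun {k l} h =>
    L.inj C (congrArg Prod.fst h) (congrFun (congrArg Prod.snd h))
  have hgood : ∀ r ∈ R, (τ r).Good := fun r hr => by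
    refine ⟨?_, L.sign C r, L.s_ne r, L.parity C r⟩
    rcases even_perm_cases _ (L.sign C r) with h | h
    · show L.π r * L.π r = 1
      rw [L.cube_eq_one C hr h, one_mul]
    · exact h
  obtain ⟨a, haR, hπa, i₀, j₀, hij⟩ := L.diag
  have hsd : ∀ {d k : K}, L.π d = 1 → L.π (k * d * k⁻¹) = 1 ∧
      ∀ i, L.s (k * d * k⁻¹) i = L.s d ((L.π k)⁻¹ i) := by
    intro d k hd
    refine ⟨by rw [map_mul, map_mul, hd, mul_one, ← map_mul, mul_inv_cancel, map_one], fun i => ?_⟩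
    have h := L.s_mul k k⁻¹ i
    rw [mul_inv_cancel, show L.s 1 i = 1 from congrFun (congrArg Prod.snd hτ1) i, map_inv] at h
    rw [L.s_mul, L.s_mul, hd, Equiv.Perm.one_apply, map_inv, mul_right_comm, ← h, one_mul]
  -- all the permutations
  obtain ⟨r₁, hr₁, hr₁1⟩ : ∃ r ∈ R, L.π r ≠ 1 := by
    by_contra hno
    push Not at hno
    obtain ⟨w, hwx, hwy, hwz⟩ : ∃ w, w ≠ L.x ∧ w ≠ L.y ∧ w ≠ L.z := by
      by_contra h
      push Not at h
      have : (Finset.univ : Finset (Fin 4)) ⊆ {L.x, L.y, L.z} := fun w _ => by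
        by_cases h1 : w = L.x
        · simp [h1]
        by_cases h2 : w = L.y
        · simp [h2]
        simp [h w h1 h2]
      have := (Finset.card_le_card this).trans Finset.card_le_three
      simp at this
    obtain ⟨k, hk⟩ := L.trans w
    obtain ⟨r, hr, i, rfl⟩ := C.cases k
    rw [map_mul, hno r hr, one_mul, map_pow] at hk
    have : ∀ i : ℕ, (L.π b ^ i) L.x = L.x ∨ (L.π b ^ i) L.x = L.y ∨ (L.π b ^ i) L.x = L.z := by
      intro i
      induction i with
      | zero => left; rw [pow_zero, Equiv.Perm.one_apply]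
      | succ i ih =>
        rw [pow_succ', Equiv.Perm.mul_apply]
        rcases ih with e | e | e <;> rw [e]
        · exact Or.inr (Or.inl L.cyc.xy)
        · exact Or.inr (Or.inr L.cyc.yz)
        · exact Or.inl L.cyc.zx
    rcases this i with e | e | e <;> rw [hk] at e
    exacts [hwx e, hwy e, hwz e]
  have hperm : ∀ q : Equiv.Perm (Fin 4), q * q = 1 → Equiv.Perm.sign q = 1 → ∃ r ∈ R, L.π r = q := by
    intro q h1 h2
    by_cases hq : q = 1
    · exact ⟨1, R.one_mem, by rw [map_one, hq]⟩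
    rcases good_perm _ q (hgood r₁ hr₁).1 (L.sign C r₁) hr₁1 h1 h2 hq with rfl | rfl | rfl
    · exact ⟨r₁, hr₁, rfl⟩
    · exact ⟨_, hR.conj_mem r₁ hr₁ b, by rw [map_mul, map_mul, map_inv, h0]⟩
    · exact ⟨_, hR.conj_mem _ (hR.conj_mem r₁ hr₁ b) b, by simp only [map_mul, map_inv, h0]; rfl⟩
  have heven : ∀ p : Equiv.Perm (Fin 4), Equiv.Perm.sign p = 1 → ∃ k : K, L.π k = p := by
    intro p hp
    obtain ⟨q, h1, h2, hq⟩ := even_perm_mem p hp
    obtain ⟨r, -, hr⟩ := hperm q h1 h2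
    rcases hq with rfl | rfl | rfl
    · exact ⟨r, hr⟩
    · exact ⟨r * b, by rw [map_mul, hr, h0]⟩
    · exact ⟨r * (b * b), by rw [map_mul, map_mul, hr, h0]⟩
  have hdiag : ∀ t : Fin 4 → 𝔽, (∀ i, t i ≠ 0) → ∏ i, t i = 1 →
      ∃ r ∈ R, L.π r = 1 ∧ ∀ i, L.s r i = t i := by
    intro t h1 h2
    obtain ⟨p, p', hp, hp', h⟩ := good_translates (L.s a) (L.s_ne a) (L.parity C a) ⟨i₀, j₀, hij⟩ t h1 h2
    have hconj : ∀ {p : Equiv.Perm (Fin 4)}, Equiv.Perm.sign p = 1 →
        ∃ r ∈ R, L.π r = 1 ∧ ∀ i, L.s r i = L.s a (p i) := fun {p} hp => by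
      obtain ⟨k, hk⟩ := heven p⁻¹ (by rw [map_inv, hp, inv_one])
      exact ⟨k * a * k⁻¹, hR.conj_mem a haR k, (hsd hπa).1, fun i => by rw [(hsd hπa).2, hk, inv_inv]⟩
    obtain ⟨r, hr, hr1, hrs⟩ := hconj hp
    rcases h with h | h
    · exact ⟨r, hr, hr1, fun i => by rw [hrs, h]⟩
    · obtain ⟨r', hr', hr1', hrs'⟩ := hconj hp'
      exact ⟨r * r', mul_mem hr hr', by rw [map_mul, hr1, hr1', one_mul], fun i => by
        rw [L.s_mul, hr1', Equiv.Perm.one_apply, hrs, hrs', h]⟩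
  let f : R → {m : Mono // m ∈ Finset.univ.filter Mono.Good} := fun r =>
    ⟨τ r, Finset.mem_filter.2 ⟨Finset.mem_univ _, hgood r r.2⟩⟩
  have hbij : Function.Bijective f := by
    refine ⟨fun r r' h => Subtype.ext (hτinj (congrArg Subtype.val h)), fun m => ?_⟩
    obtain ⟨⟨q, t⟩, hm⟩ := m
    obtain ⟨h1, h2, h3, h4⟩ := (Finset.mem_filter.1 hm).2
    obtain ⟨r, hr, hrq⟩ := hperm q h1 h2
    simp only at h3 h4
    obtain ⟨d, hd, hd1, hds⟩ := hdiag (fun i => L.s r i * t i)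
      (fun i => mul_ne_zero (L.s_ne r i) (h3 i))
      (by rw [Finset.prod_mul_distrib, L.parity C r, h4, one_mul])
    refine ⟨⟨r * d, mul_mem hr hd⟩, Subtype.ext (Prod.ext ?_ (funext fun i => ?_))⟩
    · show L.π (r * d) = q
      rw [map_mul, hd1, mul_one, hrq]
    · show L.s (r * d) i = t i
      rw [L.s_mul, hd1, Equiv.Perm.one_apply, hds, ← mul_assoc,
        (by decide : ∀ x : 𝔽, x ≠ 0 → x * x = 1) _ (L.s_ne r i), one_mul]
  have hcard : Nat.card R = 32 := by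
    rw [Nat.card_eq_of_bijective f hbij, Nat.card_eq_finsetCard, card_good]
  have hlift : ∀ m : Mono, m.Good → ∃ r ∈ R, τ r = m := fun m hm => by
    obtain ⟨⟨r, hr⟩, h⟩ := hbij.2 ⟨m, Finset.mem_filter.2 ⟨Finset.mem_univ _, hm⟩⟩
    exact ⟨r, hr, congrArg Subtype.val h⟩
  obtain ⟨hn, hn1, hn2⟩ := good_neg
  obtain ⟨z, hz, hzτ⟩ := hlift Mono.neg hn
  refine ⟨hcard, z, hz, fun e => hn1 ?_, hτinj ?_, fun x hx => ?_, fun x hx hc => ?_, fun y hy => hτinj ?_, ?_, ?_⟩
  · rw [← hzτ, e, hτ1]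
  · rw [hτmul, hzτ, hn2, hτ1]
  · rcases good_sq _ (hgood x hx) with h | h
    · exact Or.inl (hτinj (by rw [hτmul, h, hτ1]))
    · exact Or.inr (hτinj (by rw [hτmul, h, hzτ]))
  · rcases good_center _ (hgood x hx) (fun m hm => by
      obtain ⟨y, hy, rfl⟩ := hlift m hm
      rw [← hτmul, ← hτmul, hc y hy]) with h | h
    · exact Or.inl (hτinj (h.trans hτ1.symm))
    · exact Or.inr (hτinj (h.trans hzτ.symm))
  · rw [hτmul, hτmul, hzτ]
    refine Prod.ext ?_ (funext fun i => ?_)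
    · show (1 : Equiv.Perm (Fin 4)) * L.π y = L.π y * 1
      rw [one_mul, mul_one]
    · show (-1 : 𝔽) * L.s y i = L.s y ((1 : Equiv.Perm (Fin 4)) i) * -1
      rw [Equiv.Perm.one_apply, mul_comm]
  · obtain ⟨m, hm, m', hm', hne⟩ := good_nonabelian
    obtain ⟨x, hx, rfl⟩ := hlift m hm
    obtain ⟨y, hy, rfl⟩ := hlift m' hm'
    exact ⟨x, hx, y, hy, fun e => hne (by rw [← hτmul, ← hτmul, e])⟩
  · obtain ⟨hd8, hdsq, hdc⟩ := good_diag
    refine ⟨R ⊓ L.π.ker, inf_le_left, fun x hx y hy => hτinj ?_, fun x hx => hτinj ?_, ?_⟩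
    · rw [hτmul, hτmul]
      exact hdc _ _ (MonoidHom.mem_ker.1 hx.2) (MonoidHom.mem_ker.1 hy.2)
    · rw [hτmul, hτ1]
      exact hdsq _ (hgood x hx.1) (MonoidHom.mem_ker.1 hx.2)
    · let g : ↥(R ⊓ L.π.ker) → {m : Mono // m ∈ Finset.univ.filter fun m : Mono => m.Good ∧ m.1 = 1} :=
        fun r => ⟨τ r, Finset.mem_filter.2 ⟨Finset.mem_univ _, hgood r r.2.1, MonoidHom.mem_ker.1 r.2.2⟩⟩
      have hg : Function.Bijective g := by
        refine ⟨fun r r' h => Subtype.ext (hτinj (congrArg Subtype.val h)), fun ⟨m, hm⟩ => ?_⟩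
        obtain ⟨h1, h2⟩ := (Finset.mem_filter.1 hm).2
        obtain ⟨r, hr, rfl⟩ := hlift m h1
        exact ⟨⟨r, hr, MonoidHom.mem_ker.2 h2⟩, rfl⟩
      rw [Nat.card_eq_of_bijective g hg, Nat.card_eq_finsetCard, hd8]

theorem Core.monomial (C : Core ρ R Q b) (A : Subgroup K) (hA : A.Normal) (hA2 : IsPGroup 2 A)
    (hAc : ∀ x ∈ A, ∀ y ∈ A, x * y = y * x) (hmove : ∃ a ∈ A, b * a ≠ a * b) : Shape R Q := by
  classical
  obtain ⟨n, ⟨L⟩⟩ := C.exists_lines A hA hA2 hAc hmove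
  have h4 := L.le_four C
  have h3 : 3 ≤ n := by
    have h := Finset.card_le_univ ({L.x, L.y, L.z} : Finset (Fin n))
    rw [Finset.card_insert_of_notMem (by simp [L.cyc.nxy, L.cyc.nxz]), Finset.card_pair L.cyc.nyz,
      Fintype.card_fin] at h
    exact h
  interval_cases n
  · exact L.shape_three C
  · obtain ⟨w, hw⟩ : ∃ w, w ∉ ({L.x, L.y, L.z} : Finset (Fin 4)) := by
      by_contra h
      push Not at h
      have := (Finset.card_le_card (fun w _ => h w : Finset.univ ⊆ ({L.x, L.y, L.z} : Finset (Fin 4)))).trans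
        Finset.card_le_three
      simp at this
    simp only [Finset.mem_insert, Finset.mem_singleton, not_or] at hw
    let v : Fin 4 → Fin 4 := ![L.x, L.y, L.z, w]
    have hv : Function.Bijective v := by
      rw [Fintype.bijective_iff_injective_and_card]
      refine ⟨fun i j h => ?_, rfl⟩
      fin_cases i <;> fin_cases j <;>
        simp_all [v, L.cyc.nxy, L.cyc.nxz, L.cyc.nyz, L.cyc.nxy.symm, L.cyc.nxz.symm, L.cyc.nyz.symm,
          eq_comm]
    let σ : Fin 4 ≃ Fin 4 := (Equiv.ofBijective v hv).symm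
    have hπ' : ∀ k i, σ.permCongrHom.toMonoidHom.comp L.π k i = σ (L.π k (σ.symm i)) := fun k i => rfl
    let L' : Lines ρ R b 4 :=
      { e := L.e.reindex σ
        π := σ.permCongrHom.toMonoidHom.comp L.π
        s := fun k i => L.s k (σ.symm i)
        act := fun k i => by rw [Basis.reindex_apply, Basis.reindex_apply, L.act, hπ', Equiv.symm_apply_apply]
        x := σ L.x
        y := σ L.y
        z := σ L.z
        cyc :=
          { xy := by rw [hπ', Equiv.symm_apply_apply, L.cyc.xy]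
            yz := by rw [hπ', Equiv.symm_apply_apply, L.cyc.yz]
            zx := by rw [hπ', Equiv.symm_apply_apply, L.cyc.zx]
            rest := fun u a c d => by
              obtain ⟨u', rfl⟩ := σ.surjective u
              rw [hπ', Equiv.symm_apply_apply, L.cyc.rest u' (fun e => a (e ▸ rfl)) (fun e => c (e ▸ rfl))
                (fun e => d (e ▸ rfl))]
            nxy := σ.injective.ne L.cyc.nxy
            nxz := σ.injective.ne L.cyc.nxz
            nyz := σ.injective.ne L.cyc.nyz }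
        trans := fun i => by
          obtain ⟨k, hk⟩ := L.trans (σ.symm i)
          exact ⟨k, by rw [hπ', Equiv.symm_apply_apply, hk, Equiv.apply_symm_apply]⟩
        diag := by
          obtain ⟨a, ha, h1, i, j, hij⟩ := L.diag
          exact ⟨a, ha, Equiv.ext fun i => by
            rw [hπ', h1, Equiv.Perm.one_apply, Equiv.apply_symm_apply, Equiv.Perm.one_apply],
            σ i, σ j, by simpa using hij⟩ }
    refine L'.shape_four C (Equiv.ext fun i => ?_)
    show σ (L.π b (v i)) = beta i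
    rw [Equiv.ofBijective v hv |>.symm_apply_eq]
    show L.π b (v i) = v (beta i)
    fin_cases i
    · exact L.cyc.xy
    · exact L.cyc.yz
    · exact L.cyc.zx
    · exact L.cyc.rest w hw.1 hw.2.1 hw.2.2

end Cfsg.Agent.CubicBlock
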