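import Cfsg.Agent.Lib.CubicBlock.Moved
import Cfsg.Agent.Lib.CubicBlock.Monomial

/-!
# The possible groups

* `Core.exists_moved`: some abelian normal two-subgroup is moved
* `Core.shape`: `R = Q` or `R` is extraspecial of order thirty-two
-/

set_option autoImplicit false
set_option linter.unusedSectionVars false

namespace Cfsg.Agent.CubicBlock

open Module
open scoped commutatorElement

local notation "𝔽" => ZMod 3

variable {K W : Type*} [Group K] [AddCommGroup W] [Module 𝔽 W] [Finite K] [Finite W]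
variable {ρ : Representation 𝔽 K W} {R Q : Subgroup K} {b : K} {U : Subgroup K}

theorem Core.card_ne_eight (C : Core ρ R Q b) (S : Symp ρ U) [U.Normal] [((signs ρ).subgroupOf U).Normal]
    [Fintype (Symp.V ρ U)] : Fintype.card (Symp.V ρ U) ≠ 8 := by
  classical
  intro h8
  have hpm : ∀ x y : Symp.V ρ U, form x y = 1 ∨ form x y = -1 := fun x y => by
    unfold form sgn; split_ifs <;> simp
  have hself : ∀ x : Symp.V ρ U, form x x = 1 := fun x => by
    unfold form sgn
    rw [if_pos]
    intro w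
    rw [commutatorElement_self, one_apply]
  have h1 : ∀ x : Symp.V ρ U, form 1 x = 1 := fun x => by
    have h := form_mul C S 1 1 x
    rw [mul_one] at h
    rcases hpm 1 x with e | e
    · exact e
    · rw [e] at h; exact absurd h (by decide)
  have : Nontrivial (Symp.V ρ U) := Fintype.one_lt_card_iff_nontrivial.1 (by omega)
  obtain ⟨u, hu⟩ := exists_ne (1 : Symp.V ρ U)
  obtain ⟨w, hw⟩ := form_nondeg C S hu
  have hwu : form w u = -1 := by rw [form_symm C S u w, hw]
  obtain ⟨x, y, hxy, he⟩ := Fintype.exists_ne_map_eq_of_card_lt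
    (fun x : Symp.V ρ U => (decide (form x u = 1), decide (form x w = 1))) (by simp [h8])
  simp only [Prod.mk.injEq, decide_eq_decide] at he
  have hd : ∀ z : Symp.V ρ U, (form x z = 1 ↔ form y z = 1) → form (x * y) z = 1 := fun z hz => by
    rw [form_mul C S]
    rcases hpm x z with e | e <;> rcases hpm y z with e' | e' <;> rw [e, e'] at hz ⊢ <;>
      first | decide | exact absurd hz (by decide)
  have hdu := hd u he.1
  have hdw := hd w he.2
  have hd1 : x * y ≠ 1 := fun e => hxy (by
    rw [← mul_one x, ← mul_self_quot S y, ← mul_assoc, e, one_mul])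
  generalize x * y = d at hdu hdw hd1
  let g : Bool × Bool × Bool → Symp.V ρ U := fun p => cond p.1 u 1 * cond p.2.1 w 1 * cond p.2.2 d 1
  have hg : Function.Injective g := by
    rintro ⟨a, c, e⟩ ⟨a', c', e'⟩ h
    have ha := congrArg (fun v => form v w) h
    have hc := congrArg (fun v => form v u) h
    simp only [g, form_mul C S] at ha hc
    have hne : (-1 : 𝔽) ≠ 1 := by decide
    have ea : a = a' := by
      revert ha
      cases a <;> cases a' <;> cases c <;> cases c' <;> cases e <;> cases e' <;>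
        simp [hw, hdw, h1, hself, hne, hne.symm]
    have ec : c = c' := by
      revert hc
      cases a <;> cases a' <;> cases c <;> cases c' <;> cases e <;> cases e' <;>
        simp [hwu, hdu, h1, hself, hne, hne.symm]
    subst ea; subst ec
    have h' := mul_left_cancel h
    cases e <;> cases e' <;> first | rfl | exact absurd h'.symm hd1 | exact absurd h' hd1
  have hbij : Function.Bijective g := (Fintype.bijective_iff_injective_and_card g).2 ⟨hg, by simp [h8]⟩
  obtain ⟨z, hz⟩ := form_nondeg C S hd1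
  obtain ⟨⟨a, c, e⟩, rfl⟩ := hbij.2 z
  rw [form_symm C S] at hz
  revert hz
  simp only [g, form_mul C S]
  cases a <;> cases c <;> cases e <;>
    simp [form_symm C S d u, form_symm C S d w, hdu, hdw, hself, h1, show (1 : 𝔽) ≠ -1 by decide]

theorem pow_cube_five {G : Type*} [Group G] {c g : G} (hc : c ^ 3 = 1) (hg : g ^ 5 = 1)
    (h : c * g * c⁻¹ ∈ Subgroup.zpowers g) : c * g = g * c := by
  obtain ⟨z, hz⟩ := Subgroup.mem_zpowers_iff.1 h
  have hz' : c * g * c⁻¹ = g ^ (z % 5).toNat := by
    rw [← hz, ← zpow_natCast, Int.toNat_of_nonneg (Int.emod_nonneg _ (by norm_num))]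
    conv_lhs => rw [← Int.mul_ediv_add_emod z 5, zpow_add, zpow_mul, zpow_ofNat, hg, one_zpow, one_mul]
  obtain ⟨a, ha⟩ : ∃ a, a = (z % 5).toNat := ⟨_, rfl⟩
  have ha5 : a < 5 := by
    have := Int.emod_lt_of_pos z (by norm_num : (0 : ℤ) < 5)
    omega
  rw [← ha] at hz'
  have h3 : g = g ^ (a * a * a) := by
    have e : ∀ n : ℕ, c * g ^ n * c⁻¹ = g ^ (a * n) := fun n => by
      rw [pow_mul, ← hz', conj_pow]
    calc g = c ^ 3 * g * (c ^ 3)⁻¹ := by rw [hc]; group
      _ = c * (c * (c * g ^ 1 * c⁻¹) * c⁻¹) * c⁻¹ := by rw [pow_succ, pow_succ, pow_one]; group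
      _ = _ := by rw [e, e, e]; congr 1; ring
  have h5 : g = g ^ a := by
    interval_cases a
    · simpa using h3
    · exact (pow_one g).symm
    · rw [show 2 * 2 * 2 = 5 + 3 by rfl, pow_add, hg, one_mul] at h3
      have : g ^ 2 = 1 := by
        have := h3
        rw [pow_succ g 2, eq_comm, mul_eq_right] at this
        exact this
      have hg1 : g = 1 := by
        have h := pow_gcd_eq_one.2 ⟨this, hg⟩
        simpa using h
      simp [hg1]
    · rw [show 3 * 3 * 3 = 5 * 5 + 2 by rfl, pow_add, pow_mul, hg, one_pow, one_mul, pow_two,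
        eq_comm, mul_eq_left] at h3
      simp [h3]
    · rw [show 4 * 4 * 4 = 5 * 12 + 4 by rfl, pow_add, pow_mul, hg, one_pow, one_mul] at h3
      exact h3
  rw [← h5] at hz'
  exact mul_inv_eq_iff_eq_mul.1 hz'

theorem Core.exists_moved (C : Core ρ R Q b) :
    ∃ A : Subgroup K, A.Normal ∧ IsPGroup 2 A ∧ (∀ x ∈ A, ∀ y ∈ A, x * y = y * x) ∧
      ∃ a ∈ A, b * a ≠ a * b := by
  classical
  by_contra h
  push Not at h
  have hno : NoMoved K b := fun A hA hA2 hAc a ha => h A hA hA2 hAc a ha
  obtain ⟨U, S, hUR, hU2, hYU, hUs, hker⟩ := C.exists_symp hno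
  have := S.normal
  have : ((signs ρ).subgroupOf U).Normal := (signs_normal C.inj).subgroupOf U
  have : Fintype (Symp.V ρ U) := Fintype.ofFinite _
  have := C.solv
  have hR := C.normal
  set π : K →* Equiv.Perm (Symp.V ρ U) := conjQuot C.inj with hπdef
  have hπ : ∀ k v, π k v = conjMap k v := fun k v => rfl
  have hk1 : ∀ k, π k = 1 → k ∈ U := fun k hk => hker k fun u hu => by
    have h1 := Equiv.congr_fun hk (QuotientGroup.mk ⟨u, hu⟩)
    rw [hπ, conjMap_mk C.inj, Equiv.Perm.one_apply] at h1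
    obtain ⟨z, hz, e⟩ := Symp.mk_eq_iff.1 h1
    change u = k * u * k⁻¹ * z at e
    have : ⁅k, u⁆ = z⁻¹ := by
      rw [commutatorElement_def]
      calc k * u * k⁻¹ * u⁻¹ = k * u * k⁻¹ * (k * u * k⁻¹ * z)⁻¹ := by rw [← e]
        _ = (k * u * k⁻¹) * z⁻¹ * (k * u * k⁻¹)⁻¹ := by group
        _ = z⁻¹ := by
          rw [← signs_central C.inj (inv_mem hz), mul_inv_cancel_right]
    rw [this]; exact inv_mem hz
  have hk2 : ∀ u ∈ U, π u = 1 := fun u hu => Equiv.ext fun v => by
    obtain ⟨x, rfl⟩ := QuotientGroup.mk_surjective v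
    rw [hπ, conjMap_mk C.inj, Equiv.Perm.one_apply]
    exact Symp.mk_eq_iff.2 ⟨_, S.comm u hu _ (inv_mem x.2), by
      show (x : K) = u * x * u⁻¹ * ⁅u, (x : K)⁻¹⁆
      rw [commutatorElement_def]; group⟩
  obtain ⟨hvd, hv4⟩ := C.dim_eq_four S hU2 hUR hUs
  obtain ⟨j, hj⟩ := (hU2.to_quotient ((signs ρ).subgroupOf U)).exists_card_eq
  have hv : Fintype.card (Symp.V ρ U) = 4 ∨ Fintype.card (Symp.V ρ U) = 16 := by
    have h8 := C.card_ne_eight S
    have hj' : Fintype.card (Symp.V ρ U) = 2 ^ j := by rw [← Nat.card_eq_fintype_card]; exact hj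
    have : 2 ^ j ∣ 16 := hj' ▸ ⟨_, hvd.symm⟩
    have hj4 : j ≤ 4 := (Nat.pow_dvd_pow_iff_le_right (by norm_num : 1 < 2)).1
      (this.trans (by norm_num))
    interval_cases j <;> norm_num at hj' <;> omega
  -- the quotient
  have hb1 : b ≠ 1 := fun e => by
    obtain ⟨q, hq, hne⟩ := C.move
    exact hne (by rw [e, one_mul, mul_one])
  let mk := QuotientGroup.mk' U
  have hmkU : ∀ k, mk k = 1 ↔ k ∈ U := QuotientGroup.eq_one_iff
  have hRU : R ≤ U := by
    by_contra hnot
    have h3 : Cfsg.pCore 3 (K ⧸ U) = ⊥ := by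
      by_contra hne
      obtain ⟨x, hx, hx1⟩ := (Subgroup.bot_or_exists_ne_one _).resolve_left hne
      set P := Cfsg.pCore 3 (K ⧸ U)
      have hP : P.Normal := Subgroup.normal_of_characteristic _
      have hPm : ∀ y ∈ P, ∃ m : ℕ, y ^ 3 ^ m = 1 := fun y hy => by
        obtain ⟨m, hm⟩ := Cores.isPGroup_pCore 3 (K ⧸ U) ⟨y, hy⟩
        exact ⟨m, by have := congrArg Subtype.val hm; rwa [Subgroup.coe_pow, Subgroup.coe_one] at this⟩
      have hco : ∀ y : K ⧸ U, ∀ r ∈ R, mk r = y → (∃ m : ℕ, y ^ 3 ^ m = 1) → y = 1 := by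
        rintro y r hr rfl ⟨m, hm⟩
        have h1 : mk r ^ Nat.card R = 1 := by
          rw [← map_pow]
          have := congrArg Subtype.val (pow_card_eq_one' (x := (⟨r, hr⟩ : R)))
          rw [Subgroup.coe_pow, Subgroup.coe_one] at this
          rw [this, map_one]
        have := pow_gcd_eq_one.2 ⟨h1, hm⟩
        rwa [Nat.Coprime.pow_right m C.cop, pow_one] at this
      have hcomm : ∀ r ∈ R, ∀ y ∈ P, mk r * y = y * mk r := fun r hr y hy => by
        obtain ⟨k, rfl⟩ := QuotientGroup.mk'_surjective U y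
        refine commutatorElement_eq_one_iff_mul_comm.1 (hco _ ⁅r, k⁆ ?_ (map_commutatorElement mk r k) (hPm _ ?_))
        · rw [commutatorElement_def, mul_assoc, mul_assoc, ← mul_assoc k]
          exact mul_mem hr (hR.conj_mem _ (inv_mem hr) k)
        · rw [commutatorElement_def]
          exact mul_mem (hP.conj_mem _ hy _) (inv_mem hy)
      obtain ⟨k, rfl⟩ := QuotientGroup.mk'_surjective U x
      obtain ⟨r, hr, i, rfl⟩ := C.cases k
      obtain ⟨m, hm⟩ := hPm _ hx
      have hc : Commute (mk r) (mk b ^ i) := by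
        have := hcomm r hr _ hx
        rw [map_mul, map_pow] at this
        exact mul_left_cancel (this.trans (mul_assoc _ _ _))
      have hb3 : mk b ^ 3 = 1 := by rw [← map_pow, C.cube, map_one]
      have hr1 : mk r = 1 := hco _ r hr rfl ⟨m + 1, by
        rw [map_mul, map_pow] at hm
        have e : (mk r * mk b ^ i) ^ 3 ^ (m + 1) = 1 := by rw [pow_succ, pow_mul, hm, one_pow]
        have hb : (mk b ^ i) ^ 3 ^ (m + 1) = 1 := by
          rw [← pow_mul, mul_comm, pow_succ', mul_assoc, pow_mul, hb3, one_pow]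
        rwa [hc.mul_pow, hb, mul_one] at e⟩
      rw [map_mul, map_pow, hr1, one_mul] at hx hx1
      have hi : i % 3 ≠ 0 := fun e => hx1 (by
        rw [← Nat.div_add_mod i 3, e, add_zero, pow_mul, hb3, one_pow])
      have hbP : mk b ∈ P := by
        have e : mk b = (mk b ^ i) ^ i := by
          rw [← pow_mul, ← pow_one (mk b)]
          conv_rhs => rw [pow_one, ← Nat.div_add_mod (i * i) 3, pow_add, pow_mul, hb3, one_pow, one_mul]
          congr 1
          rw [Nat.mul_mod]
          have := Nat.mod_lt i (show 3 > 0 by norm_num)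
          obtain h | h : i % 3 = 1 ∨ i % 3 = 2 := by omega
          all_goals rw [h]
        rw [e]
        exact pow_mem hx i
      refine hnot (C.le_of_comm S.normal hUR fun r hr => (hmkU _).1 ?_)
      rw [map_mul, map_mul, map_mul, map_inv, map_inv, hcomm r hr _ hbP, mul_inv_cancel_right,
        mul_inv_cancel]
    have hP : ∀ q : Nat.Primes, Cfsg.pCore q (K ⧸ U) ≤
        Subgroup.centralizer {mk b} ⊓ R.map mk := by
      intro q x hx
      obtain ⟨k, rfl⟩ := QuotientGroup.mk'_surjective U x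
      set M := (Cfsg.pCore (q : ℕ) (K ⧸ U)).comap mk with hM
      have hPn : (Cfsg.pCore (q : ℕ) (K ⧸ U)).Normal := Subgroup.normal_of_characteristic _
      have hMn : M.Normal := hPn.comap mk
      have hMpow : ∀ m ∈ M, ∃ e : ℕ, m ^ (q : ℕ) ^ e ∈ U := fun m hm => by
        obtain ⟨e, he⟩ := Cores.isPGroup_pCore (q : ℕ) (K ⧸ U) ⟨mk m, hm⟩
        refine ⟨e, (hmkU _).1 ?_⟩
        rw [map_pow]
        have := congrArg Subtype.val he
        rwa [Subgroup.coe_pow, Subgroup.coe_one] at this
      have hUpow : ∀ u ∈ U, ∃ e : ℕ, u ^ 2 ^ e = 1 := fun u hu => by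
        obtain ⟨e, he⟩ := hU2 ⟨u, hu⟩
        exact ⟨e, by have := congrArg Subtype.val he; rwa [Subgroup.coe_pow, Subgroup.coe_one] at this⟩
      rcases eq_or_ne (q : ℕ) 3 with hq3 | hq3
      · rw [hq3, h3] at hx
        rw [Subgroup.mem_bot.1 hx]
        exact one_mem _
      have hkM : k ∈ M := hx
      refine ⟨Subgroup.mem_centralizer_singleton_iff.2 ?_, ⟨k, ?_, rfl⟩⟩
      swap
      · obtain ⟨e, he⟩ := hMpow k hkM
        obtain ⟨e', he'⟩ := hUpow _ he
        refine C.mem_of_coprime (m := (q : ℕ) ^ e * 2 ^ e') (by rw [pow_mul]; exact he') ?_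
        exact Nat.Coprime.mul_left (Nat.Coprime.pow_left e ((Nat.coprime_primes q.2 Nat.prime_three).2 hq3))
          (Nat.Coprime.pow_left e' (by norm_num))
      suffices hπc : ∀ m ∈ M, π (b * m * b⁻¹ * m⁻¹) = 1 by
        have := (hmkU _).2 (hk1 _ (hπc k hkM))
        rw [map_mul, map_mul, map_mul, map_inv, map_inv, mul_inv_eq_one, mul_inv_eq_iff_eq_mul] at this
        exact this.symm
      by_cases hMU : M ≤ U
      · exact fun m hm => hk2 _ (mul_mem (S.normal.conj_mem m (hMU hm) b) (inv_mem (hMU hm)))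
      have hq2 : (q : ℕ) ≠ 2 := by
        intro e
        refine hMU ((Cores.le_pCore hMn fun m => ?_).trans hYU)
        obtain ⟨i, hi⟩ := hMpow m m.2
        obtain ⟨i', hi'⟩ := hUpow _ hi
        refine ⟨i + i', Subtype.ext ?_⟩
        rw [Subgroup.coe_pow, Subgroup.coe_one, pow_add, pow_mul]
        rw [e] at hi'
        exact hi'
      have hq5 : 5 ≤ (q : ℕ) := q.2.five_le_of_ne_two_of_ne_three hq2 hq3
      have hqf : Fact (q : ℕ).Prime := ⟨q.2⟩
      -- fixed subgroups
      have key : ∀ T : Subgroup K, T ≤ M → ¬ T ≤ U →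
          Nat.card (fixedQuot (U := U) C.inj (T : Set K)) = 1 ∧ (q : ℕ) = 5 ∧ Fintype.card (Symp.V ρ U) = 16 ∨
          Nat.card (fixedQuot (U := U) C.inj (T : Set K)) = 2 ∧ Fintype.card (Symp.V ρ U) = 16 ∧ (q : ℕ) = 7 := by
        intro T hTM hTU
        set L := fixedQuot (U := U) C.inj (T : Set K) with hL
        have hpg : IsPGroup (q : ℕ) (T.map π) := by
          rintro ⟨_, t, ht, rfl⟩
          obtain ⟨e, he⟩ := hMpow t (hTM ht)
          exact ⟨e, Subtype.ext (by rw [Subgroup.coe_pow, Subgroup.coe_one, ← map_pow, hk2 _ he])⟩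
        have hcong := hpg.card_modEq_card_fixedPoints (Symp.V ρ U)
        have hfix : Nat.card (MulAction.fixedPoints (T.map π) (Symp.V ρ U)) = Nat.card L :=
          Nat.card_congr (Equiv.subtypeEquivRight fun v => ⟨fun h k hk => h ⟨π k, k, hk, rfl⟩,
            fun h g => by obtain ⟨_, t, ht, rfl⟩ := g; exact h t ht⟩)
        rw [hfix, Nat.card_eq_fintype_card] at hcong
        have hlt : Nat.card L < Fintype.card (Symp.V ρ U) := by
          refine lt_of_le_of_ne (Nat.card_eq_fintype_card (α := Symp.V ρ U) ▸ Subgroup.card_le_card_group L)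
            fun e => hTU fun t ht => hk1 t (Equiv.ext fun v => ?_)
          have : L = ⊤ := Subgroup.eq_top_of_card_eq L (by rw [e, Nat.card_eq_fintype_card])
          exact (this ▸ Subgroup.mem_top v : v ∈ L) t ht
        have hdvd : Nat.card L ∣ 16 := (L.card_subgroup_dvd_card).trans (by
          rw [Nat.card_eq_fintype_card]; exact ⟨_, hvd.symm⟩)
        have hqd : (q : ℕ) ∣ Fintype.card (Symp.V ρ U) - Nat.card L :=
          (Nat.modEq_iff_dvd' hlt.le).1 hcong.symm
        obtain ⟨i, hi4, hi⟩ := (Nat.dvd_prime_pow Nat.prime_two).1 (show Nat.card L ∣ 2 ^ 4 by simpa using hdvd)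
        have hle : (q : ℕ) ≤ 15 := (Nat.le_of_dvd (by omega) hqd).trans (by
          have : 0 < Nat.card L := Nat.card_pos
          omega)
        rw [hi] at hlt hqd ⊢
        obtain ⟨n, hn⟩ : ∃ n, n = (q : ℕ) := ⟨_, rfl⟩
        have hnp : n.Prime := hn ▸ q.2
        rw [← hn] at hqd hle hq5 ⊢
        rcases hv with e | e <;> rw [e] at hlt hqd ⊢ <;>
          interval_cases i <;> interval_cases n <;> first
            | omega
            | exact Or.inl ⟨rfl, rfl, rfl⟩
            | exact Or.inr ⟨rfl, rfl, rfl⟩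
            | exact absurd hnp (by norm_num)
            | (exfalso; norm_num at hlt hqd; done)
      rcases key M le_rfl hMU with ⟨-, hq, h16⟩ | ⟨hL2, -, -⟩
      swap
      · exfalso
        set L := fixedQuot (U := U) C.inj (M : Set K) with hL
        let A : Subgroup K := (L.comap (QuotientGroup.mk' ((signs ρ).subgroupOf U))).map U.subtype
        have hAU : A ≤ U := Subgroup.map_subtype_le _
        have hmemA : ∀ {a : K} (ha : a ∈ U), a ∈ A ↔ (QuotientGroup.mk ⟨a, ha⟩ : Symp.V ρ U) ∈ L := by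
          intro a ha
          constructor
          · rintro ⟨a', ha', e⟩
            have : a' = ⟨a, ha⟩ := Subtype.ext e
            subst this
            exact ha'
          · exact fun h => ⟨⟨a, ha⟩, h, rfl⟩
        have hAn : A.Normal := by
          refine ⟨fun a ha k => ?_⟩
          have haU := hAU ha
          rw [hmemA (S.normal.conj_mem a haU k), ← conjMap_mk C.inj k ⟨a, haU⟩]
          intro m hm
          rw [← conjMap_mul C.inj, show m * k = k * (k⁻¹ * m * k⁻¹⁻¹) by group, conjMap_mul C.inj]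
          congr 1
          exact (hmemA haU).1 ha _ (hMn.conj_mem m hm k⁻¹)
        have : Fintype L := Fintype.ofFinite _
        obtain ⟨v, hv1, hvuniq⟩ : ∃ v : Symp.V ρ U, v ≠ 1 ∧ v ∈ L ∧ ∀ x ∈ L, x = 1 ∨ x = v := by
          have : Nontrivial L := Finite.one_lt_card_iff_nontrivial.1 (by omega)
          obtain ⟨v, hv⟩ := exists_ne (1 : L)
          refine ⟨v, fun e => hv (Subtype.ext e), v.2, fun x hx => ?_⟩
          by_contra hne
          push Not at hne
          have := Finset.card_le_univ ({1, v, ⟨x, hx⟩} : Finset L)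
          rw [Finset.card_insert_of_notMem (by simp [hv.symm, Subtype.ext_iff, hne.1.symm]),
            Finset.card_pair (by simp [Subtype.ext_iff, hne.2.symm]), ← Nat.card_eq_fintype_card, hL2] at this
          omega
        have hAc : ∀ x ∈ A, ∀ y ∈ A, x * y = y * x := by
          have hform : ∀ a ∈ A, (∃ z ∈ signs ρ, a = z) ∨ ∃ z ∈ signs ρ, a = Symp.rep v * z := by
            intro a ha
            rcases hvuniq.2 _ ((hmemA (hAU ha)).1 ha) with e | e
            · exact Or.inl ⟨a, (QuotientGroup.eq_one_iff (N := (signs ρ).subgroupOf U) (⟨a, hAU ha⟩ : U)).1 e, rfl⟩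
            · rw [← Symp.mk_rep v] at e
              obtain ⟨z, hz, e'⟩ := Symp.mk_eq_iff.1 e.symm
              exact Or.inr ⟨z, hz, e'⟩
          intro x hx y hy
          rcases hform x hx with ⟨z, hz, rfl⟩ | ⟨z, hz, rfl⟩
          · exact signs_central C.inj hz y
          rcases hform y hy with ⟨z', hz', rfl⟩ | ⟨z', hz', rfl⟩
          · exact (signs_central C.inj hz' _).symm
          · calc Symp.rep v * z * (Symp.rep v * z') = Symp.rep v * (z * Symp.rep v) * z' := by group
              _ = Symp.rep v * Symp.rep v * (z * z') := by rw [signs_central C.inj hz (Symp.rep v)]; group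
              _ = Symp.rep v * Symp.rep v * (z' * z) := by rw [signs_central C.inj hz z']
              _ = Symp.rep v * (z' * Symp.rep v) * z := by rw [signs_central C.inj hz' (Symp.rep v)]; group
              _ = _ := by group
        have hvA : Symp.rep v ∈ A := (hmemA (Symp.rep_mem v)).2 (by rw [Symp.mk_rep]; exact hvuniq.1)
        have hvs : Symp.rep v ∈ signs ρ :=
          C.central_cases (C.central_of_commute hAn (hno A hAn (hU2.to_le hAU) hAc) _ hvA)
        exact hv1 (by rw [← Symp.mk_rep v, QuotientGroup.eq_one_iff]; exact hvs)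
      -- order five
      intro m hm
      have hfree : ∀ t ∈ M, ∀ v : Symp.V ρ U, v ≠ 1 → π t v = v → π t = 1 := by
        intro t ht v hv1 hfx
        by_contra hne
        have htU : ¬ Subgroup.zpowers t ≤ U := fun e => hne (hk2 t (e (Subgroup.mem_zpowers t)))
        rcases key _ (Subgroup.zpowers_le.2 ht) htU with ⟨e, -, -⟩ | ⟨-, -, e⟩
        · rw [Subgroup.card_eq_one] at e
          refine hv1 (Subgroup.mem_bot.1 (e ▸ ?_))
          intro k hk
          obtain ⟨i, rfl⟩ := Subgroup.mem_zpowers_iff.1 hk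
          rw [← hπ, map_zpow]
          exact Equiv.Perm.zpow_apply_eq_self_of_apply_eq_self hfx i
        · omega
      have hcard : Nat.card (M.map π) ≤ 16 := by
        have : Nontrivial (Symp.V ρ U) := Fintype.one_lt_card_iff_nontrivial.1 (by omega)
        obtain ⟨v, hv1⟩ := exists_ne (1 : Symp.V ρ U)
        rw [← h16, ← Nat.card_eq_fintype_card]
        refine Nat.card_le_card_of_injective (fun g : M.map π => (g : Equiv.Perm (Symp.V ρ U)) v) ?_
        rintro ⟨_, s, hs, rfl⟩ ⟨_, t, ht, rfl⟩ e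
        change π s v = π t v at e
        refine Subtype.ext ?_
        have := hfree (t⁻¹ * s) (mul_mem (inv_mem ht) hs) v hv1 (by
          rw [map_mul, map_inv, Equiv.Perm.mul_apply, e]; exact (π t).symm_apply_apply v)
        rw [map_mul, map_inv, inv_mul_eq_one] at this
        exact this.symm
      have hpg : IsPGroup (q : ℕ) (M.map π) := by
        rintro ⟨_, t, ht, rfl⟩
        obtain ⟨e, he⟩ := hMpow t ht
        exact ⟨e, Subtype.ext (by rw [Subgroup.coe_pow, Subgroup.coe_one, ← map_pow, hk2 _ he])⟩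
      obtain ⟨e, he⟩ := hpg.exists_card_eq
      have he1 : e ≤ 1 := by
        by_contra hlt
        have := Nat.pow_le_pow_right (show 0 < (q : ℕ) by omega) (show 2 ≤ e by omega)
        rw [hq] at he this
        omega
      have hm5 : ∀ g ∈ M.map π, g ^ 5 = 1 := fun g hg => by
        have := congrArg Subtype.val (pow_card_eq_one' (x := (⟨g, hg⟩ : M.map π)))
        rw [Subgroup.coe_pow, Subgroup.coe_one, he, hq] at this
        interval_cases e
        · rw [pow_zero, pow_one] at this; change g = 1 at this; rw [this, one_pow]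
        · rw [pow_one] at this; exact this
      by_cases hg1 : π m = 1
      · rw [map_mul, map_mul, map_mul, map_inv, map_inv, hg1, mul_one, mul_inv_cancel, one_mul, inv_one]
      have hcyc : M.map π = Subgroup.zpowers (π m) := by
        refine (Subgroup.eq_of_le_of_card_ge (Subgroup.zpowers_le.2 (Subgroup.mem_map_of_mem π hm)) ?_).symm
        have : Fact (Nat.Prime 5) := ⟨Nat.prime_five⟩
        rw [Nat.card_zpowers, orderOf_eq_prime (hm5 _ ⟨m, hm, rfl⟩) hg1, he, hq]
        interval_cases e <;> norm_num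
      have := pow_cube_five (c := π b) (by rw [← map_pow, C.cube, map_one]) (hm5 _ ⟨m, hm, rfl⟩) (by
        rw [← hcyc, ← map_inv, ← map_mul, ← map_mul]
        exact ⟨_, hMn.conj_mem m hm b, rfl⟩)
      rw [map_mul, map_mul, map_mul, map_inv, map_inv, this, mul_inv_cancel_right, mul_inv_cancel]
    have hb : mk b ∈ Cfsg.fittingSubgroup (K ⧸ U) := by
      refine Solvable.centralizer_fitting_le _ (Subgroup.mem_centralizer_iff.2 fun f hf => ?_)
      have : Cfsg.fittingSubgroup (K ⧸ U) ≤ Subgroup.centralizer {mk b} := by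
        rw [Cores.fittingSubgroup_eq_iSup_pCore]
        exact iSup_le fun q => (hP q).trans inf_le_left
      exact Subgroup.mem_centralizer_singleton_iff.1 (this hf)
    rw [Cores.fittingSubgroup_eq_iSup_pCore] at hb
    obtain ⟨r, hr, e⟩ := iSup_le (fun q => (hP q).trans inf_le_right) hb
    have hbR : b ∈ R := by
      have : r⁻¹ * b ∈ U := (hmkU _).1 (by rw [map_mul, map_inv, e, inv_mul_cancel])
      simpa using mul_mem hr (hUR this)
    have h1 := congrArg Subtype.val (pow_card_eq_one' (x := (⟨b, hbR⟩ : R)))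
    rw [Subgroup.coe_pow, Subgroup.coe_one] at h1
    have := pow_gcd_eq_one.2 ⟨h1, C.cube⟩
    rw [C.cop, pow_one] at this
    exact hb1 this
  -- the four-group with the signs
  have hZn := signs_normal C.inj
  have hQU : Q ≤ U := C.le.trans hRU
  have hA : (Q ⊔ signs ρ).Normal := by
    refine ⟨fun a ha k => ?_⟩
    obtain ⟨q, hq, z, hz, rfl⟩ := Subgroup.mem_sup_of_normal_right.1 ha
    obtain ⟨r, hr, i, rfl⟩ := C.cases k
    have hbi : ∀ (n : ℕ), ∀ q ∈ Q, b ^ n * q * (b ^ n)⁻¹ ∈ Q := by
      intro n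
      induction n with
      | zero => intro q hq; simpa using hq
      | succ n ih =>
        intro q hq
        rw [show b ^ (n + 1) * q * (b ^ (n + 1))⁻¹ = b ^ n * (b * q * b⁻¹) * (b ^ n)⁻¹ by
          rw [pow_succ]; group]
        exact ih _ (C.conj q hq)
    have hq' := hbi i q hq
    rw [show r * b ^ i * (q * z) * (r * b ^ i)⁻¹ =
      ⁅r, b ^ i * q * (b ^ i)⁻¹⁆ * (b ^ i * q * (b ^ i)⁻¹) * ((r * b ^ i) * z * (r * b ^ i)⁻¹) by
        rw [commutatorElement_def]; group]
    exact mul_mem (mul_mem (Subgroup.mem_sup_right (S.comm r (hRU hr) _ (hQU hq')))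
      (Subgroup.mem_sup_left hq')) (Subgroup.mem_sup_right (hZn.conj_mem z hz _))
  obtain ⟨q, hq, hne⟩ := C.move
  refine hne (h _ hA (hU2.to_le (sup_le hQU S.le)) ?_ q (Subgroup.mem_sup_left hq))
  intro x hx y hy
  obtain ⟨q₁, h₁, z₁, hz₁, rfl⟩ := Subgroup.mem_sup_of_normal_right.1 hx
  obtain ⟨q₂, h₂, z₂, hz₂, rfl⟩ := Subgroup.mem_sup_of_normal_right.1 hy
  have hqq : q₁ * q₂ = q₂ * q₁ := by
    calc q₁ * q₂ = (q₁ * q₂)⁻¹ := (inv_eq_of_mul_eq_one_right (C.elem _ (mul_mem h₁ h₂))).symm
      _ = q₂ * q₁ := by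
        rw [mul_inv_rev, inv_eq_of_mul_eq_one_right (C.elem _ h₁), inv_eq_of_mul_eq_one_right (C.elem _ h₂)]
  calc q₁ * z₁ * (q₂ * z₂) = q₁ * (z₁ * q₂) * z₂ := by group
    _ = q₁ * q₂ * (z₁ * z₂) := by rw [signs_central C.inj hz₁]; group
    _ = q₂ * q₁ * (z₂ * z₁) := by rw [hqq, signs_central C.inj hz₁ z₂]
    _ = q₂ * (q₁ * z₂) * z₁ := by group
    _ = q₂ * (z₂ * q₁) * z₁ := by rw [signs_central C.inj hz₂]
    _ = _ := by group

theorem Core.shape (C : Core ρ R Q b) : Shape R Q := by
  obtain ⟨A, hA, hA2, hAc, hm⟩ := C.exists_moved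
  exact C.monomial A hA hA2 hAc hm

end Cfsg.Agent.CubicBlock
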