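import Cfsg.Agent.Lib.CubicBlock.Symplectic

/-!
# No moved abelian normal two-subgroup forces a small symplectic group

* `Core.exists_symp`, `conjQuot`
* `Core.dim_eq_four`
-/

set_option autoImplicit false
set_option linter.unusedSectionVars false

namespace Cfsg.Agent.CubicBlock

open Module
open scoped commutatorElement

local notation "𝔽" => ZMod 3

variable {K W : Type*} [Group K] [AddCommGroup W] [Module 𝔽 W] [Finite K] [Finite W]
variable {ρ : Representation 𝔽 K W} {R Q : Subgroup K} {b : K} {U : Subgroup K}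

/-- Every abelian normal two-subgroup is centralized by `b`. -/
def NoMoved (K : Type*) [Group K] (b : K) : Prop :=
  ∀ A : Subgroup K, A.Normal → IsPGroup 2 A → (∀ x ∈ A, ∀ y ∈ A, x * y = y * x) → ∀ a ∈ A, b * a = a * b

theorem Core.le_signs (C : Core ρ R Q b) (hno : NoMoved K b) {M : Subgroup K} (hM : M.Normal)
    (hM2 : M ≤ Cfsg.pCore 2 K) (hMc : ∀ x ∈ M, ∀ y ∈ M, x * y = y * x) : M ≤ signs ρ :=
  fun m hm => C.central_cases (C.central_of_commute hM
    (hno M hM ((Cores.isPGroup_pCore 2 K).to_le hM2) hMc) m hm)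

theorem Core.signs_le_pCore (C : Core ρ R Q b) : signs ρ ≤ Cfsg.pCore 2 K :=
  Cores.le_pCore (signs_normal C.inj) fun z => ⟨1, Subtype.ext (by
    rw [Subgroup.coe_pow, pow_one, pow_two, Subgroup.coe_one]; exact signs_sq C.inj z.2)⟩

theorem Core.pCore_two_le (C : Core ρ R Q b) : Cfsg.pCore 2 K ≤ R := by
  intro y hy
  obtain ⟨m, hm⟩ := Cores.isPGroup_pCore 2 K ⟨y, hy⟩
  refine C.mem_of_coprime (m := 2 ^ m) ?_ (Nat.Coprime.pow_left m (by norm_num))
  have := congrArg Subtype.val hm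
  rwa [Subgroup.coe_pow, Subgroup.coe_one] at this

theorem Core.fitting_le (C : Core ρ R Q b) : Cfsg.fittingSubgroup K ≤ Cfsg.pCore 2 K := by
  rw [Cores.fittingSubgroup_eq_iSup_pCore]
  refine iSup_le fun p => ?_
  rcases eq_or_ne (p : ℕ) 2 with h | h
  · rw [h]
  rcases eq_or_ne (p : ℕ) 3 with h3 | h3
  · rw [h3, C.pCore_three_eq_bot]; exact bot_le
  · have : Fact (p : ℕ).Prime := ⟨p.2⟩
    rw [C.pCore_odd_eq_bot p h h3]; exact bot_le

theorem Core.exists_deep (C : Core ρ R Q b) {M : Subgroup K} (hM : M.Normal) (hMY : M ≤ Cfsg.pCore 2 K)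
    (hMs : ¬ M ≤ signs ρ) :
    ∃ x ∈ M, x ∉ signs ρ ∧ (∀ y ∈ Cfsg.pCore 2 K, ⁅x, y⁆ ∈ signs ρ) ∧ x * x ∈ signs ρ := by
  classical
  set Y := Cfsg.pCore 2 K
  have hY : Y.Normal := Subgroup.normal_of_characteristic _
  obtain ⟨N, ⟨hN, hNM, hNs⟩, hmin⟩ := WellFounded.has_min (wellFounded_lt (α := Subgroup K))
    {N | N.Normal ∧ N ≤ M ∧ ¬ N ≤ signs ρ} ⟨M, hM, le_rfl, hMs⟩
  have hcn : (⁅N, Y⁆ : Subgroup K).Normal := Subgroup.commutator_normal N Y
  have hcle : ⁅N, Y⁆ ≤ N := Subgroup.commutator_le_left N Y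
  have hc : ⁅N, Y⁆ ≤ signs ρ := by
    by_contra h
    have heq : ⁅N, Y⁆ = N := by
      by_contra hne
      exact hmin _ ⟨hcn, hcle.trans hNM, h⟩ (lt_of_le_of_ne hcle hne)
    have hall : ∀ n, N ≤ ((⊤ : Subgroup Y).lowerCentralSeries n).map Y.subtype := by
      intro n
      induction n with
      | zero =>
        rw [Subgroup.lowerCentralSeries_zero, ← MonoidHom.range_eq_map, Subgroup.range_subtype]
        exact hNM.trans hMY
      | succ n ih =>
        rw [Subgroup.lowerCentralSeries_succ, Subgroup.map_commutator, ← MonoidHom.range_eq_map,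
          Subgroup.range_subtype, ← heq]
        exact Subgroup.commutator_mono ih le_rfl
    have hnil : Group.IsNilpotent Y := (Cores.isPGroup_pCore 2 K).isNilpotent
    obtain ⟨n, hn⟩ := Subgroup.nilpotent_iff_lowerCentralSeries.1 hnil
    have := hall n
    rw [hn, Subgroup.map_bot] at this
    exact hNs (this.trans bot_le)
  have hZn := signs_normal C.inj
  obtain ⟨x₀, hx₀N, hx₀⟩ := SetLike.not_le_iff_exists.1 hNs
  obtain ⟨m, hm⟩ := Cores.isPGroup_pCore 2 K ⟨x₀, hMY (hNM hx₀N)⟩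
  have hm' : x₀ ^ 2 ^ m = 1 := by
    have := congrArg Subtype.val hm
    rwa [Subgroup.coe_pow, Subgroup.coe_one] at this
  have key : ∀ m : ℕ, ∀ x ∈ N, x ∉ signs ρ → x ^ 2 ^ m = 1 → ∃ x ∈ N, x ∉ signs ρ ∧ x * x ∈ signs ρ := by
    intro m
    induction m with
    | zero => intro x _ hx h; rw [pow_zero, pow_one] at h; exact absurd (h ▸ one_mem _) hx
    | succ m ih =>
      intro x hx hxs h
      by_cases h2 : x * x ∈ signs ρ
      · exact ⟨x, hx, hxs, h2⟩
      · exact ih _ (mul_mem hx hx) h2 (by rw [← pow_two, ← pow_mul, ← pow_succ']; exact h)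
  obtain ⟨x, hxN, hxs, hx2⟩ := key m x₀ hx₀N hx₀ hm'
  exact ⟨x, hNM hxN, hxs, fun y hy => hc (Subgroup.commutator_mem_commutator hxN hy), hx2⟩

theorem Core.exists_symp (C : Core ρ R Q b) (hno : NoMoved K b) :
    ∃ U : Subgroup K, Symp ρ U ∧ U ≤ R ∧ IsPGroup 2 U ∧ Cfsg.pCore 2 K ≤ U ∧ ¬ U ≤ signs ρ ∧
      ∀ k : K, (∀ u ∈ U, ⁅k, u⁆ ∈ signs ρ) → k ∈ U := by
  classical
  have := C.solv
  set Y := Cfsg.pCore 2 K with hYdef
  have hY : Y.Normal := Subgroup.normal_of_characteristic _
  have hZn := signs_normal C.inj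
  have hid : ∀ x y : K, ⁅x, y⁆ = x * y * x⁻¹ * y⁻¹ := fun x y => rfl
  let U : Subgroup K :=
    { carrier := {x | x ∈ Y ∧ (∀ y ∈ Y, ⁅x, y⁆ ∈ signs ρ) ∧ x * x ∈ signs ρ}
      one_mem' := ⟨Y.one_mem, fun y _ => by rw [commutatorElement_one_left]; exact one_mem _,
        by rw [one_mul]; exact one_mem _⟩
      mul_mem' := fun {x x'} hx hx' => by
        refine ⟨mul_mem hx.1 hx'.1, fun y hy => ?_, ?_⟩
        · rw [show ⁅x * x', y⁆ = x * ⁅x', y⁆ * x⁻¹ * ⁅x, y⁆ by rw [hid, hid, hid]; group]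
          exact mul_mem (hZn.conj_mem _ (hx'.2.1 y hy) x) (hx.2.1 y hy)
        · have h1 : ⁅x', x⁆ ∈ signs ρ := hx'.2.1 x hx.1
          rw [show x * x' * (x * x') = x * ⁅x', x⁆ * x⁻¹ * (x * x) * (x' * x') by rw [hid]; group]
          exact mul_mem (mul_mem (hZn.conj_mem _ h1 x) hx.2.2) hx'.2.2
      inv_mem' := fun {x} hx => by
        refine ⟨inv_mem hx.1, fun y hy => ?_, by rw [← mul_inv_rev]; exact inv_mem hx.2.2⟩
        rw [show ⁅x⁻¹, y⁆ = x⁻¹ * ⁅x, y⁆⁻¹ * x⁻¹⁻¹ by rw [hid, hid]; group]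
        exact hZn.conj_mem _ (inv_mem (hx.2.1 y hy)) _ }
  have hUY : U ≤ Y := fun x hx => hx.1
  have hUn : U.Normal := ⟨fun x hx k => ⟨hY.conj_mem x hx.1 k, fun y hy => by
      have := hZn.conj_mem _ (hx.2.1 _ (hY.conj_mem y hy k⁻¹)) k
      rw [show ⁅k * x * k⁻¹, y⁆ = k * ⁅x, k⁻¹ * y * k⁻¹⁻¹⁆ * k⁻¹ by rw [hid, hid]; group]
      exact this,
    by
      rw [show k * x * k⁻¹ * (k * x * k⁻¹) = k * (x * x) * k⁻¹ by group]
      exact hZn.conj_mem _ hx.2.2 k⟩⟩
  have hle : signs ρ ≤ U := fun z hz => ⟨C.signs_le_pCore hz,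
    fun y _ => by rw [commutatorElement_eq_one_iff_mul_comm.2 (signs_central C.inj hz y)]; exact one_mem _,
    mul_mem hz hz⟩
  have hcentU : ∀ u ∈ U, (∀ v ∈ U, u * v = v * u) → u ∈ signs ρ := by
    intro u hu hc
    have hMn : (U ⊓ Subgroup.centralizer (U : Set K)).Normal :=
      have := Subgroup.normal_centralizer (H := U)
      inferInstance
    exact C.le_signs hno hMn (inf_le_left.trans hUY)
      (fun x hx y hy => (Subgroup.mem_centralizer_iff.1 hy.2 x hx.1))
      ⟨hu, Subgroup.mem_centralizer_iff.2 fun v hv => (hc v hv).symm⟩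
  have hS : Symp ρ U := ⟨hle, hUn, fun u hu => hu.2.2, fun u hu v hv => hu.2.1 v hv.1, hcentU⟩
  have hDn : (Subgroup.centralizer (U : Set K)).Normal := Subgroup.normal_centralizer
  -- the centralizer of `U` consists of signs
  set D := Subgroup.centralizer (U : Set K) with hD
  have hDY : D ⊓ Y ≤ signs ρ := by
    by_contra h
    obtain ⟨x, hx, hxs, h1, h2⟩ := C.exists_deep (M := D ⊓ Y) inferInstance inf_le_right h
    exact hxs (hcentU x ⟨hx.2, h1, h2⟩ fun v hv => (Subgroup.mem_centralizer_iff.1 hx.1 v hv).symm)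
  have hDs : D ≤ signs ρ := by
    have hsolvD : Group.IsSolvable D := inferInstance
    have hF : (Cfsg.fittingSubgroup D).map D.subtype ≤ signs ρ := by
      refine le_trans ?_ hDY
      refine le_inf (Subgroup.map_subtype_le _) ?_
      refine le_trans ?_ C.fitting_le
      rw [Cores.fittingSubgroup_map_subtype]
      exact inf_le_left
    intro d hd
    have h1 : (⟨d, hd⟩ : D) ∈ Subgroup.centralizer (Cfsg.fittingSubgroup D : Set D) :=
      Subgroup.mem_centralizer_iff.2 fun f hf => Subtype.ext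
        (signs_central C.inj (hF ⟨f, hf, rfl⟩) d)
    exact hF ⟨_, Solvable.centralizer_fitting_le D h1, rfl⟩
  have hYns : ¬ Y ≤ signs ρ := by
    intro h
    have hF : Cfsg.fittingSubgroup K ≤ signs ρ := C.fitting_le.trans h
    have hb : b ∈ Cfsg.fittingSubgroup K := Solvable.centralizer_fitting_le K
      (Subgroup.mem_centralizer_iff.2 fun f hf => signs_central C.inj (hF hf) b)
    obtain ⟨q, hq, hne⟩ := C.move
    exact hne (signs_central C.inj (hF hb) q)
  have hUns : ¬ U ≤ signs ρ := by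
    obtain ⟨x, hx, hxs, h1, h2⟩ := C.exists_deep hY le_rfl hYns
    exact fun h => hxs (h ⟨hx, h1, h2⟩)
  have := signs_normal C.inj
  have hUn' := hUn
  -- the kernel
  have hker : ∀ k : K, (∀ u ∈ U, ⁅k, u⁆ ∈ signs ρ) → k ∈ U := by
    intro k hk
    have : Fintype (Symp.V ρ U) := Fintype.ofFinite _
    let lam : Symp.V ρ U → 𝔽 := fun w => sgn ρ k (Symp.rep w)
    have hmul : ∀ u v : K, u ∈ U → v ∈ U → sgn ρ k (u * v) = sgn ρ k u * sgn ρ k v := fun u v hu hv =>
      sgn_unique C (hk _ (mul_mem hu hv)) fun w => by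
        rw [mul_apply, mul_apply, conj_apply_sgn (hk u hu), conj_apply_sgn (hk v hv), map_smul, smul_smul]
    have hsig : ∀ z ∈ signs ρ, sgn ρ k z = 1 := fun z hz => sgn_unique C (hk z (hle hz)) fun w => by
      rw [one_smul, ← mul_apply, ← mul_apply, signs_central C.inj hz]
    have hlam : ∀ u : U, lam (QuotientGroup.mk u) = sgn ρ k u := fun u => by
      obtain ⟨z, hz, e⟩ := Symp.exists_rep (ρ := ρ) u
      show sgn ρ k (Symp.rep _) = _
      rw [e, hmul u z u.2 (hle hz), hsig z hz, mul_one]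
    obtain ⟨v, hv⟩ : ∃ v : Symp.V ρ U, ∑ w, lam w * form v w ≠ 0 := by
      by_contra h
      push Not at h
      have hsum : ∑ v : Symp.V ρ U, ∑ w, lam w * form v w = 0 := Finset.sum_eq_zero fun v _ => h v
      rw [Finset.sum_comm] at hsum
      simp only [← Finset.mul_sum] at hsum
      have h1 : ∀ x : Symp.V ρ U, ∑ v, form v x = if x = 1 then (Fintype.card (Symp.V ρ U) : 𝔽) else 0 :=
        fun x => by
          rw [← form_orth C hS x 1]
          refine Finset.sum_congr rfl fun v _ => ?_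
          rw [← form_mul C hS, mul_one, form_symm C hS x v]
      simp only [h1, mul_ite, mul_zero, Finset.sum_ite_eq', Finset.mem_univ, if_true] at hsum
      refine card_quot_cast C ((hUY).trans C.pCore_two_le) ((mul_eq_zero.1 hsum).resolve_left ?_)
      show sgn ρ k _ ≠ 0
      intro h0
      have := sgn_mul_self ρ k (Symp.rep (1 : Symp.V ρ U))
      rw [h0, mul_zero] at this
      exact zero_ne_one this
    have hagree : ∀ w, lam w = form v w := by
      intro w
      by_contra hne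
      refine hv ((by decide : ∀ t : 𝔽, t = -t → t = 0) _ ?_)
      conv_lhs => rw [← Equiv.sum_comp (Equiv.mulLeft w)]
      rw [← Finset.sum_neg_distrib]
      refine Finset.sum_congr rfl fun x _ => ?_
      obtain ⟨uw, rfl⟩ := QuotientGroup.mk_surjective w
      obtain ⟨ux, rfl⟩ := QuotientGroup.mk_surjective x
      have h1 : lam (QuotientGroup.mk uw) * form v (QuotientGroup.mk uw) = -1 := by
        have e1 := sgn_mul_self ρ k (Symp.rep (QuotientGroup.mk uw : Symp.V ρ U))
        have e2 := sgn_mul_self ρ (Symp.rep v) (Symp.rep (QuotientGroup.mk uw : Symp.V ρ U))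
        revert hne e1 e2
        simp only [lam, form]
        generalize sgn ρ k _ = p
        generalize sgn ρ (Symp.rep v) _ = q
        revert p q
        decide
      simp only [Equiv.coe_mulLeft]
      rw [← QuotientGroup.mk_mul, hlam, Subgroup.coe_mul, hmul _ _ uw.2 ux.2,
        ← hlam, ← hlam, QuotientGroup.mk_mul, form_symm C hS _ v, form_mul C hS, form_symm C hS v,
        form_symm C hS v (QuotientGroup.mk ux)]
      calc lam (QuotientGroup.mk uw) * lam (QuotientGroup.mk ux) *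
            (form v (QuotientGroup.mk uw) * form v (QuotientGroup.mk ux))
          = (lam (QuotientGroup.mk uw) * form v (QuotientGroup.mk uw)) *
            (lam (QuotientGroup.mk ux) * form v (QuotientGroup.mk ux)) := by ring
        _ = _ := by rw [h1, neg_one_mul]
    have hd : k * Symp.rep v ∈ D := by
      refine Subgroup.mem_centralizer_iff.2 fun u hu => ?_
      have h1 := hagree (QuotientGroup.mk ⟨u, hu⟩)
      have h2 := form_mk C hS ⟨Symp.rep v, Symp.rep_mem v⟩ (⟨u, hu⟩ : U)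
      rw [Symp.mk_rep] at h2
      rw [hlam, h2] at h1
      refine C.inj (LinearMap.ext fun w => ?_)
      rw [mul_apply, mul_apply, mul_apply, mul_apply]
      conv_rhs => rw [conj_apply_sgn (hS.comm _ (Symp.rep_mem v) u hu), map_smul,
        conj_apply_sgn (hk u hu), h1, smul_smul, sgn_mul_self, one_smul]
    have := mul_mem (hle (hDs hd)) (inv_mem (Symp.rep_mem v))
    rwa [mul_inv_cancel_right] at this
  exact ⟨U, hS, hUY.trans C.pCore_two_le, (Cores.isPGroup_pCore 2 K).to_le hUY,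
    fun y hy => hker y fun u hu => by
      rw [← commutatorElement_inv]; exact inv_mem (hu.2.1 y hy),
    hUns, hker⟩

section Action

variable [hUn : U.Normal] [hZn : ((signs ρ).subgroupOf U).Normal]

theorem conj_mk_congr (hρ : Function.Injective ρ) (k : K) {u v : U}
    (h : (QuotientGroup.mk u : Symp.V ρ U) = QuotientGroup.mk v) :
    (QuotientGroup.mk ⟨k * u * k⁻¹, hUn.conj_mem u u.2 k⟩ : Symp.V ρ U) =
      QuotientGroup.mk ⟨k * v * k⁻¹, hUn.conj_mem v v.2 k⟩ := by
  obtain ⟨z, hz, e⟩ := Symp.mk_eq_iff.1 h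
  refine Symp.mk_eq_iff.2 ⟨z, hz, ?_⟩
  show k * v * k⁻¹ = k * u * k⁻¹ * z
  rw [e]
  calc k * (u * z) * k⁻¹ = k * u * (z * k⁻¹) := by group
    _ = k * u * (k⁻¹ * z) := by rw [signs_central hρ hz]
    _ = _ := by group

/-- Conjugation on the quotient. -/
noncomputable def conjMap (k : K) (v : Symp.V ρ U) : Symp.V ρ U :=
  QuotientGroup.mk ⟨k * Symp.rep v * k⁻¹, hUn.conj_mem _ (Symp.rep_mem v) k⟩

theorem conjMap_mk (hρ : Function.Injective ρ) (k : K) (u : U) :
    conjMap k (QuotientGroup.mk u : Symp.V ρ U) = QuotientGroup.mk ⟨k * u * k⁻¹, hUn.conj_mem u u.2 k⟩ :=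
  conj_mk_congr hρ k (Symp.mk_rep _)

theorem conjMap_one (hρ : Function.Injective ρ) (v : Symp.V ρ U) : conjMap 1 v = v := by
  obtain ⟨u, rfl⟩ := QuotientGroup.mk_surjective v
  rw [conjMap_mk hρ]
  congr 1
  exact Subtype.ext (by group)

theorem conjMap_mul (hρ : Function.Injective ρ) (k l : K) (v : Symp.V ρ U) :
    conjMap (k * l) v = conjMap k (conjMap l v) := by
  obtain ⟨u, rfl⟩ := QuotientGroup.mk_surjective v
  rw [conjMap_mk hρ, conjMap_mk hρ, conjMap_mk hρ]
  congr 1
  exact Subtype.ext (by simp only; group)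

theorem conjMap_map_mul (hρ : Function.Injective ρ) (k : K) (v w : Symp.V ρ U) :
    conjMap k (v * w) = conjMap k v * conjMap k w := by
  obtain ⟨u, rfl⟩ := QuotientGroup.mk_surjective v
  obtain ⟨u', rfl⟩ := QuotientGroup.mk_surjective w
  rw [← QuotientGroup.mk_mul, conjMap_mk hρ, conjMap_mk hρ, conjMap_mk hρ, ← QuotientGroup.mk_mul]
  congr 1
  exact Subtype.ext (by simp only [Subgroup.coe_mul]; group)

theorem conjMap_map_one (hρ : Function.Injective ρ) (k : K) : conjMap k (1 : Symp.V ρ U) = 1 := by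
  rw [← QuotientGroup.mk_one, conjMap_mk hρ]
  congr 1
  exact Subtype.ext (by simp)

/-- The permutation representation on the quotient. -/
noncomputable def conjQuot (hρ : Function.Injective ρ) : K →* Equiv.Perm (Symp.V ρ U) where
  toFun k := ⟨conjMap k, conjMap k⁻¹, fun v => by rw [← conjMap_mul hρ, inv_mul_cancel, conjMap_one hρ],
    fun v => by rw [← conjMap_mul hρ, mul_inv_cancel, conjMap_one hρ]⟩
  map_one' := Equiv.ext (conjMap_one hρ)
  map_mul' k l := Equiv.ext (conjMap_mul hρ k l)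

/-- The fixed subgroup of a set of elements. -/
def fixedQuot (hρ : Function.Injective ρ) (s : Set K) : Subgroup (Symp.V ρ U) where
  carrier := {v | ∀ k ∈ s, conjMap k v = v}
  one_mem' k _ := conjMap_map_one hρ k
  mul_mem' {v w} hv hw k hk := by rw [conjMap_map_mul hρ, hv k hk, hw k hk]
  inv_mem' {v} hv k hk := by
    refine eq_inv_of_mul_eq_one_left ?_
    nth_rewrite 2 [← hv k hk]
    rw [← conjMap_map_mul hρ, inv_mul_cancel, conjMap_map_one hρ]

theorem mul_self_quot (S : Symp ρ U) (v : Symp.V ρ U) : v * v = 1 := by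
  obtain ⟨u, rfl⟩ := QuotientGroup.mk_surjective v
  rw [← QuotientGroup.mk_mul, QuotientGroup.eq_one_iff]
  exact S.sq _ u.2

theorem exists_fixed_lt (C : Core ρ R Q b) (S : Symp ρ U) (hU2 : IsPGroup 2 U) (hUs : ¬ U ≤ signs ρ) :
    4 * Nat.card (fixedQuot (U := U) C.inj {b}) ≤ Nat.card (Symp.V ρ U) := by
  set Fx := fixedQuot (U := U) C.inj {b} with hFx
  have hmem : ∀ v, v ∈ Fx ↔ conjMap b v = v := fun v => ⟨fun h => h b rfl, fun h k hk => by
    rw [Set.mem_singleton_iff.1 hk]; exact h⟩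
  have h1 : Fx.index ≠ 1 := by
    intro h
    rw [Subgroup.index_eq_one] at h
    have hc : ∀ u ∈ U, b * u = u * b := by
      intro u hu
      have hv := (hmem (QuotientGroup.mk ⟨u, hu⟩)).1 (h ▸ Subgroup.mem_top _)
      rw [conjMap_mk C.inj] at hv
      obtain ⟨z, hz, e⟩ := Symp.mk_eq_iff.1 hv.symm
      change b * u * b⁻¹ = u * z at e
      have e2 : b * (b * (b * u * b⁻¹) * b⁻¹) * b⁻¹ = u * (z * z * z) := by
        have hb : b * z * b⁻¹ = z := by rw [← signs_central C.inj hz, mul_inv_cancel_right]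
        calc b * (b * (b * u * b⁻¹) * b⁻¹) * b⁻¹ = b * (b * (u * z) * b⁻¹) * b⁻¹ := by rw [e]
          _ = b * ((b * u * b⁻¹) * (b * z * b⁻¹)) * b⁻¹ := by group
          _ = b * (u * (z * z)) * b⁻¹ := by rw [e, hb]; group
          _ = (b * u * b⁻¹) * ((b * z * b⁻¹) * (b * z * b⁻¹)) := by group
          _ = _ := by rw [e, hb]; group
      rw [show b * (b * (b * u * b⁻¹) * b⁻¹) * b⁻¹ = b ^ 3 * u * (b ^ 3)⁻¹ by
        rw [pow_succ b 2, pow_two]; group, C.cube, one_mul, inv_one, mul_one, signs_sq C.inj hz,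
        one_mul, eq_comm, mul_eq_left] at e2
      rw [e2, mul_one, mul_inv_eq_iff_eq_mul] at e
      exact e
    exact hUs fun u hu => C.central_cases (C.central_of_commute S.normal hc u hu)
  have h2 : Fx.index ≠ 2 := by
    intro h
    obtain ⟨v, hv⟩ : ∃ v, v ∉ Fx := by
      by_contra hne
      push Not at hne
      exact h1 (Subgroup.index_eq_one.2 ((Subgroup.eq_top_iff' _).2 hne))
    have hbv : conjMap b v ∉ Fx := fun hbv => hv ((hmem v).2 (by
      have := (hmem _).1 hbv
      exact ((conjQuot C.inj b).injective this)))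
    have hm : v * conjMap b v ∈ Fx := (Subgroup.mul_mem_iff_of_index_two h).2 ⟨fun a => absurd a hv, fun a => absurd a hbv⟩
    have := (hmem _).1 hm
    rw [conjMap_map_mul C.inj] at this
    have hcomm : ∀ x y : Symp.V ρ U, x * y = y * x := fun x y => by
      calc x * y = (y * x)⁻¹ := by rw [mul_inv_rev, inv_eq_of_mul_eq_one_right (mul_self_quot S x), inv_eq_of_mul_eq_one_right (mul_self_quot S y)]
        _ = y * x := inv_eq_of_mul_eq_one_right (mul_self_quot S _)
    rw [hcomm v (conjMap b v)] at this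
    have e := mul_left_cancel this
    refine hv ((hmem v).2 ?_)
    calc conjMap b v = conjMap b (conjMap b (conjMap b v)) := by rw [e]
      _ = v := by
        rw [← conjMap_mul C.inj, ← conjMap_mul C.inj, show b * b * b = b ^ 3 by simp [pow_succ], C.cube,
          conjMap_one C.inj]
  obtain ⟨j, hj⟩ : ∃ j, Nat.card (Symp.V ρ U) = 2 ^ j :=
    (hU2.to_quotient _).exists_card_eq
  obtain ⟨i, -, hi⟩ := (Nat.dvd_prime_pow Nat.prime_two).1 (hj ▸ Fx.index_dvd_card)
  have hi2 : 2 ≤ i := by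
    by_contra hlt
    interval_cases i
    · exact h1 (by rw [hi, pow_zero])
    · exact h2 (by rw [hi, pow_one])
  rw [← Fx.card_mul_index, hi, mul_comm]
  exact Nat.mul_le_mul le_rfl ((by norm_num : (4 : ℕ) = 2 ^ 2) ▸ Nat.pow_le_pow_right (by norm_num) hi2)

theorem exists_scalar (C : Core ρ R Q b) (v : Symp.V ρ U) :
    ∃ t : 𝔽, t * t = 1 ∧ (v = 1 → t = 1) ∧
      ∀ w, ρ (b * Symp.rep v * b⁻¹) w = t • ρ (Symp.rep (conjMap b v)) w := by
  obtain ⟨z, hz, e⟩ := Symp.exists_rep (ρ := ρ) (⟨b * Symp.rep v * b⁻¹, hUn.conj_mem _ (Symp.rep_mem v) b⟩ : U)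
  change Symp.rep (conjMap b v) = b * Symp.rep v * b⁻¹ * z at e
  by_cases hv : v = 1
  · refine ⟨1, one_mul 1, fun _ => rfl, fun w => ?_⟩
    subst hv
    rw [one_smul, conjMap_map_one C.inj]
    obtain ⟨z', hz', e'⟩ := Symp.exists_rep (ρ := ρ) (1 : U)
    rw [QuotientGroup.mk_one, Subgroup.coe_one, one_mul] at e'
    rw [e', ← signs_central C.inj hz' b, mul_inv_cancel_right]
  · rcases hz with h | h
    · exact ⟨1, one_mul 1, fun a => absurd a hv, fun w => by rw [one_smul, e, mul_apply _ _ z, h]⟩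
    · exact ⟨-1, by decide, fun a => absurd a hv, fun w => by
        rw [neg_one_smul, e, mul_apply _ _ z, h, map_neg, neg_neg]⟩

theorem Core.dim_eq_four (C : Core ρ R Q b) (S : Symp ρ U) (hU2 : IsPGroup 2 U) (hUR : U ≤ R)
    (hUs : ¬ U ≤ signs ρ) [Fintype (Symp.V ρ U)] :
    Fintype.card (Symp.V ρ U) * finrank 𝔽 (uCommutant ρ U) = 16 ∧ 4 ≤ Fintype.card (Symp.V ρ U) := by
  classical
  let e := LinearEquiv.ofBijective (spread ρ U) (spread_bijective C S hUR)
  obtain ⟨n, hn, hn3, hnb⟩ := C.commutant_ge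
  have hvd : Fintype.card (Symp.V ρ U) * finrank 𝔽 (uCommutant ρ U) = n * n := by
    have := e.finrank_eq
    rw [Module.finrank_pi_fintype, Finset.sum_const, Finset.card_univ, smul_eq_mul,
      Module.finrank_linearMap, hn] at this
    exact this
  have hfix := exists_fixed_lt C S hU2 hUs
  -- parity of the dimension
  have heven : Even n := by
    obtain ⟨u, hu, hus⟩ := SetLike.not_le_iff_exists.1 hUs
    obtain ⟨v, hv, huv⟩ : ∃ v ∈ U, u * v ≠ v * u := by
      by_contra h
      push Not at h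
      exact hus (S.cent u hu h)
    rcases S.comm u hu v hv with h | h
    · exact absurd (commutatorElement_eq_one_iff_mul_comm.1 (C.inj (LinearMap.ext fun w => by
        rw [h, one_apply]))) huv
    let f : K →* 𝔽 := LinearMap.det.comp ρ
    have h1 : f ⁅u, v⁆ = 1 := by
      rw [commutatorElement_def, map_mul, map_mul, map_mul, mul_right_comm (f u), ← map_mul f u,
        mul_inv_cancel, map_one, one_mul, ← map_mul, mul_inv_cancel, map_one]
    have h2 : ρ ⁅u, v⁆ = (-1 : 𝔽) • LinearMap.id := LinearMap.ext fun w => by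
      rw [h]; simp
    have h3 : f ⁅u, v⁆ = (-1) ^ n := by
      show LinearMap.det (ρ ⁅u, v⁆) = _
      rw [h2, LinearMap.det_smul, LinearMap.det_id, mul_one, hn]
    by_contra hodd
    rw [h3, (Nat.not_even_iff_odd.1 hodd).neg_one_pow] at h1
    exact absurd h1 (by decide)
  -- the coordinates of a map commuting with `b`
  choose t ht2 ht1 ht using exists_scalar (U := U) C
  have hTmem : ∀ c ∈ uCommutant ρ U, (ρ b).comp (c.comp (ρ b⁻¹)) ∈ uCommutant ρ U := fun c hc u hu w => by
    have h' := hUn.conj_mem u hu b⁻¹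
    rw [inv_inv] at h'
    show ρ b (c (ρ b⁻¹ (ρ u w))) = ρ u (ρ b (c (ρ b⁻¹ w)))
    rw [← mul_apply ρ b⁻¹ u, show b⁻¹ * u = b⁻¹ * u * b * b⁻¹ by group, mul_apply, hc _ h', ← mul_apply,
      ← mul_apply ρ u b, show b * (b⁻¹ * u * b) = u * b by group]
  have hrel : ∀ f : commutant (ρ b), ∀ v, ((e.symm (f : W →ₗ[𝔽] W)) (conjMap b v) : W →ₗ[𝔽] W) =
      t v • (ρ b).comp (((e.symm (f : W →ₗ[𝔽] W)) v : W →ₗ[𝔽] W).comp (ρ b⁻¹)) := by
    intro f v
    set c := e.symm (f : W →ₗ[𝔽] W) with hc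
    let β : Equiv.Perm (Symp.V ρ U) := conjQuot C.inj b
    have hβ : ∀ x, β x = conjMap b x := fun x => rfl
    let c' : Symp.V ρ U → uCommutant ρ U := fun w => t (β.symm w) • ⟨_, hTmem _ (c (β.symm w)).2⟩
    have hspread : spread ρ U c' = spread ρ U c := by
      have hf : spread ρ U c = (f : W →ₗ[𝔽] W) := e.apply_symm_apply _
      rw [hf]
      refine LinearMap.ext fun w => ?_
      have hcomm : (f : W →ₗ[𝔽] W) w = ρ b ((f : W →ₗ[𝔽] W) (ρ b⁻¹ w)) := by
        rw [← f.2, apply_inv_self]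
      rw [hcomm, ← hf, spread_apply, spread_apply, map_sum, ← Equiv.sum_comp β]
      refine Finset.sum_congr rfl fun x _ => ?_
      show ρ (Symp.rep (β x)) ((t (β.symm (β x)) • (ρ b).comp (((c (β.symm (β x))) : W →ₗ[𝔽] W).comp (ρ b⁻¹))) w) = _
      rw [Equiv.symm_apply_apply, LinearMap.smul_apply, map_smul, hβ, ← ht, LinearMap.comp_apply,
        LinearMap.comp_apply, ← mul_apply, inv_mul_cancel_right, mul_apply]
    have := congrFun ((spread_bijective C S hUR).1 hspread) (β v)
    rw [← hβ v, ← this]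
    show t (β.symm (β v)) • (ρ b).comp (((c (β.symm (β v))) : W →ₗ[𝔽] W).comp (ρ b⁻¹)) = _
    rw [Equiv.symm_apply_apply]
  -- orbit representatives
  let enum := Fintype.equivFin (Symp.V ρ U)
  let S₀ : Finset (Symp.V ρ U) := Finset.univ.filter fun v =>
    enum v ≤ enum (conjMap b v) ∧ enum v ≤ enum (conjMap b (conjMap b v))
  let Fx : Finset (Symp.V ρ U) := Finset.univ.filter fun v => conjMap b v = v
  have hb3 : ∀ v : Symp.V ρ U, conjMap b (conjMap b (conjMap b v)) = v := fun v => by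
    rw [← conjMap_mul C.inj, ← conjMap_mul C.inj, show b * b * b = b ^ 3 by simp [pow_succ], C.cube,
      conjMap_one C.inj]
  have hS₀1 : (1 : Symp.V ρ U) ∈ S₀ := Finset.mem_filter.2 ⟨Finset.mem_univ _, by
    rw [conjMap_map_one C.inj, conjMap_map_one C.inj]; exact ⟨le_rfl, le_rfl⟩⟩
  have hS₀ : 3 * S₀.card ≤ Fintype.card (Symp.V ρ U) + 2 * Fx.card := by
    have hFS : Fx ⊆ S₀ := fun v hv => by
      have h := (Finset.mem_filter.1 hv).2
      exact Finset.mem_filter.2 ⟨Finset.mem_univ _, by rw [h, h]; exact ⟨le_rfl, le_rfl⟩⟩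
    let g : Symp.V ρ U × Fin 3 → Symp.V ρ U := fun p => (fun v => conjMap b v)^[(p.2 : ℕ)] p.1
    have h := Finset.card_le_card_of_injOn g (s := (S₀ \ Fx) ×ˢ (Finset.univ : Finset (Fin 3)))
      (t := Finset.univ \ Fx) (fun p hp => by
        rw [Finset.mem_coe] at hp
        obtain ⟨hp1, -⟩ := Finset.mem_product.1 hp
        simp only [Finset.mem_sdiff, Finset.mem_filter, Finset.mem_univ, true_and, Fx] at hp1
        rw [Finset.mem_coe]
        simp only [Finset.mem_sdiff, Finset.mem_filter, Finset.mem_univ, true_and, Fx]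
        intro h
        refine hp1.2 ?_
        obtain ⟨v, i⟩ := p
        fin_cases i
        · exact h
        · exact (conjQuot C.inj b).injective h
        · exact (conjQuot C.inj b).injective ((conjQuot C.inj b).injective h)) ?_
    · rw [Finset.card_product, Finset.card_univ, Fintype.card_fin, Finset.card_sdiff_of_subset hFS,
        Finset.card_sdiff_of_subset (Finset.subset_univ _), Finset.card_univ] at h
      have := Finset.card_le_card hFS
      have := Finset.card_le_univ Fx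
      omega
    · rintro ⟨v, i⟩ hv ⟨w, j⟩ hw hvw
      rw [Finset.mem_coe] at hv hw
      obtain ⟨hv, -⟩ := Finset.mem_product.1 hv
      obtain ⟨hw, -⟩ := Finset.mem_product.1 hw
      simp only [S₀, Fx, Finset.mem_sdiff, Finset.mem_filter, Finset.mem_univ, true_and] at hv hw
      obtain ⟨⟨hv1, hv2⟩, hv3⟩ := hv
      obtain ⟨⟨hw1, hw2⟩, hw3⟩ := hw
      have hinj : Function.Injective fun v : Symp.V ρ U => conjMap b v := (conjQuot C.inj b).injective
      have horb : ∀ {x y : Symp.V ρ U}, enum x ≤ enum (conjMap b x) → enum x ≤ enum (conjMap b (conjMap b x)) →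
          enum y ≤ enum (conjMap b y) → enum y ≤ enum (conjMap b (conjMap b y)) →
          (y = conjMap b x ∨ y = conjMap b (conjMap b x)) → ¬ conjMap b x = x → False := by
        intro x y a1 a2 c1 c2 hy hx
        rcases hy with rfl | rfl
        · rw [hb3] at c2
          exact hx (enum.injective (le_antisymm c2 a1))
        · rw [hb3] at c1
          have := enum.injective (le_antisymm c1 a2)
          have := congrArg (conjMap b) this
          rw [hb3] at this
          exact hx this.symm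
      fin_cases i <;> fin_cases j <;> simp [g, Function.iterate_succ] at hvw ⊢
      all_goals first
        | exact hvw
        | exact hinj hvw
        | exact hinj (hinj hvw)
        | exact (horb hw1 hw2 hv1 hv2 (Or.inl hvw) hw3).elim
        | exact (horb hw1 hw2 hv1 hv2 (Or.inr hvw) hw3).elim
        | exact (horb hv1 hv2 hw1 hw2 (Or.inl hvw.symm) hv3).elim
        | exact (horb hv1 hv2 hw1 hw2 (Or.inr hvw.symm) hv3).elim
        | exact (horb hw1 hw2 hv1 hv2 (Or.inl (hinj hvw)) hw3).elim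
        | exact (horb hv1 hv2 hw1 hw2 (Or.inl (hinj hvw).symm) hv3).elim
  -- the embedding
  let S' := S₀.erase 1
  have hmem1 : ∀ f : commutant (ρ b), ((e.symm (f : W →ₗ[𝔽] W)) 1 : W →ₗ[𝔽] W) ∈
      uCommutant ρ U ⊓ commutant (ρ b) := fun f => by
    refine ⟨((e.symm (f : W →ₗ[𝔽] W)) 1).2, fun w => ?_⟩
    have h := hrel f 1
    rw [conjMap_map_one C.inj, ht1 1 rfl, one_smul] at h
    nth_rewrite 1 [h]
    rw [LinearMap.comp_apply, LinearMap.comp_apply, inv_apply_self]
  let Ψ : commutant (ρ b) →ₗ[𝔽] (S' → uCommutant ρ U) × ↥(uCommutant ρ U ⊓ commutant (ρ b)) :=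
    { toFun := fun f => (fun v => (e.symm (f : W →ₗ[𝔽] W)) v.1, ⟨_, hmem1 f⟩)
      map_add' := fun f g => Prod.ext (funext fun v => by simp) (Subtype.ext (by simp))
      map_smul' := fun a f => Prod.ext (funext fun v => by simp) (Subtype.ext (by simp)) }
  have hΨ : Function.Injective Ψ := by
    rw [injective_iff_map_eq_zero]
    intro f hf
    have h0 : ∀ v ∈ S₀, (e.symm (f : W →ₗ[𝔽] W)) v = 0 := by
      intro v hv
      by_cases h : v = 1
      · subst h
        exact Subtype.ext (congrArg (fun p => (p.2 : W →ₗ[𝔽] W)) hf)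
      · exact congrFun (congrArg Prod.fst hf) ⟨v, Finset.mem_erase.2 ⟨h, hv⟩⟩
    have hnext : ∀ v, (e.symm (f : W →ₗ[𝔽] W)) v = 0 → (e.symm (f : W →ₗ[𝔽] W)) (conjMap b v) = 0 :=
      fun v hv => Subtype.ext (by rw [hrel, hv]; simp)
    have hall : e.symm (f : W →ₗ[𝔽] W) = 0 := funext fun v => by
      obtain ⟨m, hm, hmin⟩ := Finset.exists_min_image ({v, conjMap b v, conjMap b (conjMap b v)} : Finset _)
        enum ⟨v, by simp⟩
      simp only [Finset.mem_insert, Finset.mem_singleton, forall_eq_or_imp, forall_eq] at hm hmin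
      obtain ⟨m0, m1, m2⟩ := hmin
      rcases hm with rfl | rfl | rfl
      · exact h0 _ (Finset.mem_filter.2 ⟨Finset.mem_univ _, m1, m2⟩)
      · have := hnext _ (hnext _ (h0 _ (Finset.mem_filter.2 ⟨Finset.mem_univ _, m2, by rw [hb3]; exact m0⟩)))
        rwa [hb3] at this
      · have := hnext _ (h0 _ (Finset.mem_filter.2 ⟨Finset.mem_univ _, by rw [hb3]; exact m0,
          by rw [hb3]; exact m1⟩))
        rwa [hb3] at this
    exact Subtype.ext (e.symm.injective (hall.trans (map_zero _).symm))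
  have hle := LinearMap.finrank_le_finrank_of_injective hΨ
  rw [Module.finrank_prod, Module.finrank_pi_fintype, Finset.sum_const, Finset.card_univ,
    Fintype.card_coe, smul_eq_mul, Finset.card_erase_of_mem hS₀1] at hle
  have hFx : Nat.card (fixedQuot (U := U) C.inj {b}) = Fx.card := by
    rw [← Nat.card_eq_finsetCard]
    exact Nat.card_congr (Equiv.subtypeEquivRight fun v => by simp [fixedQuot, Fx])
  rw [hFx, Nat.card_eq_fintype_card] at hfix
  have hFx1 : 1 ≤ Fx.card := Finset.card_pos.2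
    ⟨1, Finset.mem_filter.2 ⟨Finset.mem_univ _, conjMap_map_one C.inj b⟩⟩
  have he := Submodule.finrank_mono (inf_le_left : uCommutant ρ U ⊓ commutant (ρ b) ≤ uCommutant ρ U)
  obtain ⟨v, hv⟩ : ∃ v, v = Fintype.card (Symp.V ρ U) := ⟨_, rfl⟩
  obtain ⟨d, hd⟩ : ∃ d, d = finrank 𝔽 (uCommutant ρ U) := ⟨_, rfl⟩
  rw [← hd] at hle hvd he ⊢
  rw [← hv] at hvd hfix hS₀ ⊢
  have hS1 : 1 ≤ S₀.card := Finset.card_pos.2 ⟨1, hS₀1⟩
  have hle2 : finrank 𝔽 (commutant (ρ b)) + d ≤
      S₀.card * d + finrank 𝔽 ↥(uCommutant ρ U ⊓ commutant (ρ b)) := by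
    have : (S₀.card - 1) * d + d = S₀.card * d := by
      rw [← Nat.succ_mul]; congr 1; omega
    omega
  have h6s : 6 * (S₀.card * d) ≤ 3 * (n * n) := by
    rw [← hvd]
    have := Nat.mul_le_mul_right d (show 6 * S₀.card ≤ 3 * v by omega)
    calc 6 * (S₀.card * d) = 6 * S₀.card * d := by ring
      _ ≤ 3 * v * d := this
      _ = _ := by ring
  have hn6 : n ≤ 6 := by
    by_contra hlt
    nlinarith
  have hn4 : n = 4 := by
    obtain ⟨k, hk⟩ := heven
    by_contra hne
    have hn' : n = 6 := by omega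
    rw [hn'] at hnb h6s hvd hn
    by_cases hC : uCommutant ρ U ≤ commutant (ρ b)
    · obtain ⟨F⟩ := C.frame
      have hs : ∀ c ∈ uCommutant ρ U, ∃ a : 𝔽, c F.s = a • F.s := fun c hc => by
        have hN : ∀ w, c ((ρ b - 1) w) = (ρ b - 1) (c w) := fun w => by
          show c (ρ b w - w) = ρ b (c w) - c w
          rw [map_sub, hC hc]
        exact ⟨_, by conv_lhs => rw [← F.s_eq C, hN, hN, F.sq_range C]⟩
      have hspan : (⊤ : Submodule 𝔽 W) ≤
          Submodule.span 𝔽 (Set.range fun x : Symp.V ρ U => ρ (Symp.rep x) F.s) := by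
        intro w _
        have h := congrFun (congrArg DFunLike.coe (e.apply_symm_apply (F.c.smulRight w))) F.s
        rw [LinearMap.smulRight_apply, F.c_s, one_smul] at h
        rw [← h]
        show spread ρ U _ F.s ∈ _
        rw [spread_apply]
        refine Submodule.sum_mem _ fun x _ => ?_
        obtain ⟨a, ha⟩ := hs _ ((e.symm (F.c.smulRight w)) x).2
        rw [ha, map_smul]
        exact Submodule.smul_mem _ _ (Submodule.subset_span ⟨x, rfl⟩)
      have h := (Submodule.finrank_mono hspan).trans (finrank_range_le_card _)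
      rw [finrank_top, hn, ← hv] at h
      obtain ⟨j, hj⟩ := (hU2.to_quotient ((signs ρ).subgroupOf U)).exists_card_eq
      rw [Nat.card_eq_fintype_card, ← hv] at hj
      have hdvd : 2 ^ j ∣ 4 * 9 := hj ▸ ⟨d, by rw [hvd]⟩
      have := Nat.le_of_dvd (by norm_num)
        ((Nat.Coprime.pow_left j (by norm_num : Nat.Coprime 2 9)).dvd_of_dvd_mul_right hdvd)
      omega
    · have hlt : finrank 𝔽 ↥(uCommutant ρ U ⊓ commutant (ρ b)) < d :=
        hd ▸ Submodule.finrank_lt_finrank_of_lt (lt_of_le_of_ne inf_le_left fun h => hC (inf_eq_left.1 h))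
      omega
  rw [hn4] at hvd
  exact ⟨hvd, by omega⟩

end Action

end Cfsg.Agent.CubicBlock
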