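import Cfsg.Agent.Lib.CubicBlock.Basic
import Cfsg.Agent.Lib.GLOrder.Basic

/-!
# Odd cores are trivial

* `card_dvd_of_support`: coprime groups trivial modulo a subspace
* `Core.pCore_odd_eq_bot`
-/

set_option autoImplicit false
set_option linter.unusedSectionVars false

namespace Cfsg.Agent.CubicBlock

open Module

local notation "𝔽" => ZMod 3

variable {K W : Type*} [Group K] [AddCommGroup W] [Module 𝔽 W] [Finite K] [Finite W]
variable {ρ : Representation 𝔽 K W} {R Q : Subgroup K} {b : K}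

theorem natCast_ne_zero_of_coprime {n : ℕ} (h : n.Coprime 3) : (n : 𝔽) ≠ 0 := fun h0 => by
  rw [ZMod.natCast_eq_zero_iff] at h0
  have := Nat.dvd_gcd h0 (dvd_refl 3)
  rw [h] at this
  norm_num at this

theorem card_dvd_of_support (hρ : Function.Injective ρ) {Y : Subgroup K}
    (hY : (Nat.card Y).Coprime 3) (U : Submodule 𝔽 W) (hU : Y ≤ support ρ U) :
    Nat.card Y ∣ Nat.card (GL (Fin (finrank 𝔽 U)) 𝔽) := by
  have hst : ∀ y ∈ Y, ∀ u ∈ U, ρ y u ∈ U := fun y hy u hu => by
    have := U.add_mem (hU hy u) hu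
    rwa [sub_add_cancel] at this
  let f : Y →* (Module.End 𝔽 U)ˣ := MonoidHom.toHomUnits
    { toFun := fun y => (ρ y).restrict (hst y y.2)
      map_one' := LinearMap.ext fun u => Subtype.ext (one_apply ρ (u : W))
      map_mul' := fun y z => LinearMap.ext fun u => Subtype.ext (mul_apply ρ (y : K) (z : K) (u : W)) }
  have hf : Function.Injective f := by
    rw [injective_iff_map_eq_one]
    intro y hy
    have hy' : ∀ u ∈ U, ρ (y : K) u = u := fun u hu =>
      congrArg Subtype.val (LinearMap.congr_fun (congrArg Units.val hy) ⟨u, hu⟩)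
    refine Subtype.ext (hρ (LinearMap.ext fun w => ?_))
    have hpow : ∀ k : ℕ, ρ ((y : K) ^ k) w = w + (k : 𝔽) • (ρ (y : K) w - w) := by
      intro k
      induction k with
      | zero => rw [pow_zero, one_apply, Nat.cast_zero, zero_smul, add_zero]
      | succ k ih =>
        rw [pow_succ', mul_apply, ih, map_add, map_smul, hy' _ (hU y.2 w), Nat.cast_succ, add_smul,
          one_smul]
        abel
    have := hpow (Nat.card Y)
    rw [← Subgroup.coe_pow, pow_card_eq_one', Subgroup.coe_one, one_apply, left_eq_add,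
      smul_eq_zero, sub_eq_zero] at this
    rw [Subgroup.coe_one, map_one]
    exact this.resolve_left (natCast_ne_zero_of_coprime hY)
  have h1 := Subgroup.card_dvd_of_injective f hf
  let e : (Module.End 𝔽 U)ˣ ≃* GL (Fin (finrank 𝔽 U)) 𝔽 :=
    Units.mapEquiv (LinearMap.toMatrixAlgEquiv (Module.finBasis 𝔽 U)).toMulEquiv
  rwa [Nat.card_congr e.toEquiv] at h1

theorem card_GL_dvd : (∀ d ≤ 3, Nat.card (GL (Fin d) 𝔽) ∣ 11232) ∧
    (∀ d ≤ 4, Nat.card (GL (Fin d) 𝔽) ∣ 2 ^ 9 * 3 ^ 6 * 5 * 13) ∧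
    (∀ d ≤ 6, Nat.card (GL (Fin d) 𝔽) ∣ 728 * 726 * 720 * 702 * 648 * 486) := by
  refine ⟨fun d hd => ?_, fun d hd => ?_, fun d hd => ?_⟩ <;>
    · rw [Matrix.card_GL_field]
      interval_cases d <;> simp [Fin.prod_univ_succ, ZMod.card]

/-- The elements of order thirteen with small support. -/
def IsThirteen (ρ : Representation 𝔽 K W) (c : K) : Prop :=
  orderOf c = 13 ∧ finrank 𝔽 (LinearMap.range (ρ c - 1)) ≤ 4

theorem sub_one_apply (ρ : Representation 𝔽 K W) (c : K) (w : W) : (ρ c - 1) w = ρ c w - w := rfl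

theorem thirteen_disjoint {c : K} (hc : orderOf c = 13) {w : W}
    (hw : w ∈ LinearMap.range (ρ c - 1)) (hfix : ρ c w = w) : w = 0 := by
  obtain ⟨x, rfl⟩ := hw
  have hpow : ∀ k : ℕ, ρ (c ^ k) x = x + (k : 𝔽) • (ρ c x - x) := by
    intro k
    induction k with
    | zero => rw [pow_zero, one_apply, Nat.cast_zero, zero_smul, add_zero]
    | succ k ih =>
      rw [sub_one_apply] at hfix
      rw [pow_succ', mul_apply, ih, map_add, map_smul, hfix, Nat.cast_succ, add_smul, one_smul]
      abel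
  have := hpow 13
  rw [← hc, pow_orderOf_eq_one, one_apply, hc, show ((13 : ℕ) : 𝔽) = 1 by decide, one_smul,
    left_eq_add] at this
  exact this

theorem thirteen_dim {c : K} (hc : orderOf c = 13) (U : Submodule 𝔽 W)
    (hU : U ≤ LinearMap.range (ρ c - 1)) (hinv : ∀ w ∈ U, ρ c w ∈ U) :
    13 ∣ 3 ^ finrank 𝔽 U - 1 := by
  classical
  have := Fact.mk (show Nat.Prime 13 by norm_num)
  have hpow : ∀ n : ℕ, ∀ w ∈ U, ρ (c ^ n) w ∈ U := by
    intro n
    induction n with
    | zero => intro w hw; rwa [pow_zero, one_apply]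
    | succ n ih => intro w hw; rw [pow_succ', mul_apply]; exact hinv _ (ih w hw)
  have hz : ∀ g ∈ Subgroup.zpowers c, ∀ w ∈ U, ρ g w ∈ U := by
    intro g hg
    obtain ⟨n, rfl⟩ := (mem_powers_iff_mem_zpowers.2 hg)
    exact hpow n
  let := MulAction.compHom U ({ toFun := fun g => fun u => ⟨ρ (g : K) u, hz g g.2 u u.2⟩
                                map_one' := funext fun u => Subtype.ext (one_apply ρ (u : W))
                                map_mul' := fun g h => funext fun u =>
                                  Subtype.ext (mul_apply ρ (g : K) (h : K) (u : W)) } :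
      Subgroup.zpowers c →* Function.End U)
  have hP : IsPGroup 13 (Subgroup.zpowers c) :=
    IsPGroup.of_card (n := 1) (by rw [Nat.card_zpowers, hc, pow_one])
  have hfix : MulAction.fixedPoints (Subgroup.zpowers c) U = {0} := by
    ext u
    refine ⟨fun h => Subtype.ext (thirteen_disjoint hc (hU u.2)
      (congrArg Subtype.val (h ⟨c, Subgroup.mem_zpowers c⟩))), ?_⟩
    rintro rfl g
    exact Subtype.ext (map_zero (ρ (g : K)))
  have h := hP.card_modEq_card_fixedPoints U
  rw [hfix, Nat.card_eq_fintype_card (α := ({0} : Set U)), Set.card_singleton,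
    Module.natCard_eq_pow_finrank (K := 𝔽), Nat.card_zmod] at h
  exact (Nat.modEq_iff_dvd' (Nat.one_le_pow _ _ (by norm_num))).1 h.symm

theorem thirteen_three {c : K} (hc : IsThirteen ρ c) (hρ : Function.Injective ρ) :
    finrank 𝔽 (LinearMap.range (ρ c - 1)) = 3 ∧
    ∀ U : Submodule 𝔽 W, U ≤ LinearMap.range (ρ c - 1) → (∀ w ∈ U, ρ c w ∈ U) →
      U = ⊥ ∨ U = LinearMap.range (ρ c - 1) := by
  have hcase : ∀ U : Submodule 𝔽 W, U ≤ LinearMap.range (ρ c - 1) → (∀ w ∈ U, ρ c w ∈ U) →
      finrank 𝔽 U = 0 ∨ finrank 𝔽 U = 3 := by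
    intro U hU hinv
    have h := thirteen_dim hc.1 U hU hinv
    have hle : finrank 𝔽 U ≤ 4 := (Submodule.finrank_mono hU).trans hc.2
    interval_cases hfr : finrank 𝔽 U <;> simp_all
  have h3 : finrank 𝔽 (LinearMap.range (ρ c - 1)) = 3 := by
    refine (hcase _ le_rfl ?_).resolve_left fun h0 => ?_
    · rintro _ ⟨x, rfl⟩
      exact ⟨ρ c x, by rw [sub_one_apply, sub_one_apply, map_sub]⟩
    · rw [Submodule.finrank_eq_zero, LinearMap.range_eq_bot, sub_eq_zero] at h0
      have := hc.1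
      rw [hρ (h0.trans (map_one ρ).symm), orderOf_one] at this
      omega
  refine ⟨h3, fun U hU hinv => ?_⟩
  rcases hcase U hU hinv with h | h
  · exact Or.inl (Submodule.finrank_eq_zero.1 h)
  · exact Or.inr (Submodule.eq_of_le_of_finrank_le hU (by omega))

theorem range_invariant {c d : K} (h : c * d = d * c) {w : W}
    (hw : w ∈ LinearMap.range (ρ c - 1)) : ρ d w ∈ LinearMap.range (ρ c - 1) := by
  obtain ⟨x, rfl⟩ := hw
  exact ⟨ρ d x, by rw [sub_one_apply, sub_one_apply, map_sub, ← mul_apply, ← mul_apply, h]⟩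

theorem Core.pCore_odd_eq_bot (C : Core ρ R Q b) (q : ℕ) [Fact q.Prime] (h2 : q ≠ 2) (h3 : q ≠ 3) :
    Cfsg.pCore q K = ⊥ := by
  classical
  set Y := Cfsg.pCore q K with hYdef
  have hYn : Y.Normal := Subgroup.normal_of_characteristic _
  have hYp : IsPGroup q Y := Cores.isPGroup_pCore q K
  have hq : q.Prime := Fact.out
  have hq3 : q.Coprime 3 := (Nat.coprime_primes hq Nat.prime_three).2 h3
  have hcop : ∀ (U : Submodule 𝔽 W), (Nat.card ↥(Y ⊓ support ρ U)).Coprime 3 ∧
      ∃ a, Nat.card ↥(Y ⊓ support ρ U) = q ^ a := fun U => by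
    obtain ⟨a, ha⟩ := (hYp.to_le (inf_le_left (b := support ρ U))).exists_card_eq
    exact ⟨ha ▸ hq3.pow_left a, a, ha⟩
  obtain ⟨F⟩ := C.frame
  -- it is enough that `b` centralizes `Y`
  suffices hcent : ∀ y ∈ Y, b * y = y * b by
    refine (Subgroup.eq_bot_iff_forall _).2 fun y hy => ?_
    have hc := C.central_of_commute hYn hcent y hy
    obtain ⟨k, hk⟩ := hYp ⟨y, hy⟩
    have hk' : y ^ q ^ k = 1 := by
      have := congrArg Subtype.val hk
      rwa [Subgroup.coe_pow, Subgroup.coe_one] at this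
    rcases C.central_cases hc with h | h
    · exact C.inj (LinearMap.ext fun w => by rw [h w, map_one]; rfl)
    · exfalso
      have hpow : ∀ j : ℕ, ρ (y ^ j) F.s = (-1 : 𝔽) ^ j • F.s := by
        intro j
        induction j with
        | zero => rw [pow_zero, one_apply, pow_zero, one_smul]
        | succ j ih => rw [pow_succ', mul_apply, ih, map_smul, h, pow_succ, mul_smul, neg_one_smul]
      have := hpow (q ^ k)
      rw [hk', one_apply, ((hq.odd_of_ne_two h2).pow).neg_one_pow, neg_one_smul] at this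
      have h2s : (2 : 𝔽) • F.s = 0 := by
        rw [two_smul]; nth_rewrite 1 [this]; exact neg_add_cancel _
      rw [smul_eq_zero] at h2s
      exact h2s.elim (by decide) F.s_ne
  by_contra hmove
  push Not at hmove
  obtain ⟨y, hy, hby⟩ := hmove
  have h13 : q = 13 ∧ ∃ c ∈ Y, IsThirteen ρ c := by
    set b' := y⁻¹ * b * y with hb'
    set c := b⁻¹ * b' with hcdef
    have hcY : c ∈ Y := by
      rw [hcdef, hb', show b⁻¹ * (y⁻¹ * b * y) = (b⁻¹ * y⁻¹ * b⁻¹⁻¹) * y by group]
      exact mul_mem (hYn.conj_mem _ (Y.inv_mem hy) _) hy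
    have hc1 : c ≠ 1 := fun h => by
      rw [hcdef, inv_mul_eq_one, hb'] at h
      exact hby (by conv_rhs => rw [h]
                    group)
    let U := LinearMap.range (ρ b - 1) ⊔ LinearMap.range (ρ b' - 1)
    have hb'r : finrank 𝔽 (LinearMap.range (ρ b' - 1)) ≤ 2 := by
      have : LinearMap.range (ρ b' - 1) ≤ (LinearMap.range (ρ b - 1)).map (ρ y⁻¹) := by
        rintro _ ⟨x, rfl⟩
        exact ⟨(ρ b - 1) (ρ y x), ⟨_, rfl⟩, by
          rw [sub_one_apply, sub_one_apply, map_sub, inv_apply_self, hb', mul_apply, mul_apply]⟩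
      exact (Submodule.finrank_mono this).trans ((Submodule.finrank_map_le _ _).trans C.rank)
    have hU4 : finrank 𝔽 U ≤ 4 :=
      (Submodule.finrank_add_le_finrank_add_finrank _ _).trans (Nat.add_le_add C.rank hb'r)
    have hbS : b ∈ support ρ U := support_mono le_sup_left (mem_support_range ρ b)
    have hb'S : b' ∈ support ρ U := support_mono le_sup_right (mem_support_range ρ b')
    have hcS : c ∈ support ρ U := mul_mem (inv_mem hbS) hb'S
    have hcY1 : c ∈ Y ⊓ support ρ U := ⟨hcY, hcS⟩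
    obtain ⟨hco, a, ha⟩ := hcop U
    have hdvd := (card_dvd_of_support C.inj hco U inf_le_right).trans (card_GL_dvd.2.1 _ hU4)
    rw [ha] at hdvd
    have hbc : b * c * b⁻¹ ∈ Y ⊓ support ρ U :=
      ⟨hYn.conj_mem c hcY b, mul_mem (mul_mem hbS hcS) ((support ρ U).inv_mem hbS)⟩
    have ha1 : a = 1 ∧ (q = 5 ∨ q = 13) := by
      have ha0 : a ≠ 0 := fun h0 => by
        rw [h0, pow_zero, Subgroup.card_eq_one] at ha
        rw [ha, Subgroup.mem_bot] at hcY1
        exact hc1 hcY1
      have hqd := (dvd_pow_self q ha0).trans hdvd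
      have hq' : q = 5 ∨ q = 13 := by
        rcases hq.dvd_mul.1 hqd with h | h
        · rcases hq.dvd_mul.1 h with h | h
          · rcases hq.dvd_mul.1 h with h | h
            · exact absurd ((Nat.prime_dvd_prime_iff_eq hq Nat.prime_two).1 (hq.dvd_of_dvd_pow h)) h2
            · exact absurd ((Nat.prime_dvd_prime_iff_eq hq Nat.prime_three).1 (hq.dvd_of_dvd_pow h)) h3
          · exact Or.inl ((Nat.prime_dvd_prime_iff_eq hq (by norm_num)).1 h)
        · exact Or.inr ((Nat.prime_dvd_prime_iff_eq hq (by norm_num)).1 h)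
      refine ⟨?_, hq'⟩
      by_contra hne
      have := (pow_dvd_pow q (show 2 ≤ a by omega)).trans hdvd
      rcases hq' with rfl | rfl <;> norm_num at this
    obtain ⟨rfl, hq'⟩ := ha1
    rw [pow_one] at ha
    have hord : orderOf c = q := by
      refine orderOf_eq_prime ?_ hc1
      have := congrArg Subtype.val (pow_card_eq_one' (x := (⟨c, hcY1⟩ : ↥(Y ⊓ support ρ U))))
      rwa [Subgroup.coe_pow, Subgroup.coe_one, ha] at this
    rcases hq' with rfl | rfl
    · exfalso
      have hgen : Subgroup.zpowers c = Y ⊓ support ρ U :=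
        Subgroup.eq_of_le_of_card_ge (Subgroup.zpowers_le.2 hcY1) (by rw [ha, Nat.card_zpowers, hord])
      rw [← hgen] at hbc
      obtain ⟨j, hj⟩ := (mem_powers_iff_mem_zpowers.2 hbc)
      simp only at hj
      have h3' : c ^ (j * j * j) = c := by
        have h1 : ∀ i : ℕ, b * c ^ i * b⁻¹ = c ^ (j * i) := fun i => by
          rw [← conj_pow, ← hj, ← pow_mul]
        calc c ^ (j * j * j) = b * (b * (b * c ^ 1 * b⁻¹) * b⁻¹) * b⁻¹ := by
              rw [h1, mul_one, h1, h1, mul_assoc]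
          _ = b ^ 3 * c * (b ^ 3)⁻¹ := by rw [pow_one, pow_succ b 2, pow_two]; group
          _ = c := by rw [C.cube]; group
      have hj5 : j * j * j % 5 = 1 := by
        have := pow_eq_pow_iff_modEq.1 (h3'.trans (pow_one c).symm)
        rwa [hord] at this
      have hj1 : j % 5 = 1 := by
        have h5 : j % 5 < 5 := Nat.mod_lt _ (by norm_num)
        rw [Nat.mul_mod, Nat.mul_mod j j] at hj5
        interval_cases h : j % 5 <;> simp_all
      have hcomm : b * c * b⁻¹ = c := by
        rw [← hj, ← pow_mod_orderOf, hord, hj1, pow_one]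
      have hb'3 : (b * c) ^ 3 = 1 := by
        rw [hcdef, mul_inv_cancel_left, hb',
          show (y⁻¹ * b * y) ^ 3 = y⁻¹ * b ^ 3 * y by rw [pow_succ, pow_succ, pow_one, pow_succ, pow_succ, pow_one]; group,
          C.cube, mul_one, inv_mul_cancel]
      have hcc : Commute b c := mul_inv_eq_iff_eq_mul.1 hcomm
      rw [hcc.mul_pow, C.cube, one_mul] at hb'3
      have := orderOf_dvd_of_pow_eq_one hb'3
      rw [hord] at this
      norm_num at this
    · refine ⟨rfl, c, hcY, hord, (Submodule.finrank_mono ?_).trans hU4⟩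
      rintro _ ⟨x, rfl⟩
      exact hcS x
  obtain ⟨rfl, c₀, hc₀Y, hc₀⟩ := h13
  have hT : ∀ {c d : K}, c ∈ Y → IsThirteen ρ c → d ∈ Y → IsThirteen ρ d → c * d = d * c := by
    intro c d hcY hc hdY hd
    let U := LinearMap.range (ρ c - 1) ⊔ LinearMap.range (ρ d - 1)
    have hU6 : finrank 𝔽 U ≤ 6 := by
      refine (Submodule.finrank_add_le_finrank_add_finrank _ _).trans ?_
      rw [(thirteen_three hc C.inj).1, (thirteen_three hd C.inj).1]
    obtain ⟨hco, a, ha⟩ := hcop U
    have hdvd := (card_dvd_of_support C.inj hco U inf_le_right).trans (card_GL_dvd.2.2 _ hU6)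
    rw [ha] at hdvd
    have ha2 : a ≤ 2 := by
      by_contra hne
      have := (pow_dvd_pow 13 (show 3 ≤ a by omega)).trans hdvd
      norm_num at this
    have hcom : IsMulCommutative ↥(Y ⊓ support ρ U) := by
      interval_cases a
      · have : Subsingleton ↥(Y ⊓ support ρ U) :=
          (Nat.card_eq_one_iff_unique.1 (by rw [ha, pow_zero])).1
        exact ⟨⟨fun x y => Subsingleton.elim _ _⟩⟩
      · have := isCyclic_of_prime_card (p := 13) (α := ↥(Y ⊓ support ρ U)) (by rw [ha, pow_one])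
        infer_instance
      · exact ⟨⟨IsPGroup.commutative_of_card_eq_prime_sq ha⟩⟩
    exact congrArg Subtype.val (hcom.is_comm.comm
      (⟨c, hcY, support_mono le_sup_left (mem_support_range ρ c)⟩ : ↥(Y ⊓ support ρ U))
      ⟨d, hdY, support_mono le_sup_right (mem_support_range ρ d)⟩)
  have hTconj : ∀ {c : K}, IsThirteen ρ c → ∀ k, IsThirteen ρ (k * c * k⁻¹) ∧
      LinearMap.range (ρ (k * c * k⁻¹) - 1) = (LinearMap.range (ρ c - 1)).map (ρ k) := by
    intro c hc k
    have e : LinearMap.range (ρ (k * c * k⁻¹) - 1) = (LinearMap.range (ρ c - 1)).map (ρ k) := by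
      ext w
      constructor
      · rintro ⟨x, rfl⟩
        exact ⟨(ρ c - 1) (ρ k⁻¹ x), ⟨_, rfl⟩, by
          rw [sub_one_apply, sub_one_apply, map_sub, apply_inv_self, mul_apply, mul_apply]⟩
      · rintro ⟨_, ⟨x, rfl⟩, rfl⟩
        exact ⟨ρ k x, by
          rw [sub_one_apply, sub_one_apply, map_sub, mul_apply, mul_apply, inv_apply_self]⟩
    refine ⟨⟨?_, e ▸ (Submodule.finrank_map_le _ _).trans hc.2⟩, e⟩
    rw [← MulAut.conj_apply, MulEquiv.orderOf_eq]
    exact hc.1
  have hfixb : ∀ c ∈ Y, IsThirteen ρ c → ∀ w ∈ LinearMap.range (ρ c - 1),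
      ρ b w ∈ LinearMap.range (ρ c - 1) := by
    intro c hcY hc
    set U := LinearMap.range (ρ c - 1) with hUdef
    obtain ⟨hd3, hmin⟩ := thirteen_three hc C.inj
    have hmem : ∀ k : K, k * c * k⁻¹ ∈ Y := fun k => hYn.conj_mem c hcY k
    have hinv : ∀ k : K, ∀ w ∈ U.map (ρ k), ρ c w ∈ U.map (ρ k) := fun k w hw => by
      rw [← (hTconj hc k).2] at hw ⊢
      exact range_invariant (hT (hmem k) (hTconj hc k).1 hcY hc) hw
    by_contra hb
    have hne : ∀ k : K, ¬ (∀ w ∈ U, ρ k w ∈ U) → ∀ w ∈ U, ρ c (ρ k w) = ρ k w := by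
      intro k hk w hw
      have hdis : U ⊓ U.map (ρ k) = ⊥ := by
        refine (hmin _ inf_le_left (fun w hw => ⟨range_invariant rfl hw.1, hinv k w hw.2⟩)).resolve_right
          fun h => hk fun w hw => ?_
        have hle : U ≤ U.map (ρ k) := inf_eq_left.1 h
        have heq := Submodule.eq_of_le_of_finrank_le hle (Submodule.finrank_map_le _ _)
        exact heq.symm ▸ Submodule.mem_map_of_mem hw
      rw [← sub_eq_zero, ← Submodule.mem_bot 𝔽, ← hdis]
      exact ⟨⟨_, rfl⟩, sub_mem (hinv k _ (Submodule.mem_map_of_mem hw)) (Submodule.mem_map_of_mem hw)⟩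
    have hb2 : ¬ ∀ w ∈ U, ρ (b * b) w ∈ U := fun h => hb fun w hw => by
      have := h _ (h w hw)
      rwa [← mul_apply, show b * b * (b * b) = b ^ 3 * b by simp [pow_succ, mul_assoc], C.cube,
        one_mul] at this
    let φ : U × U →ₗ[𝔽] LinearMap.range (ρ b - 1) :=
      LinearMap.coprod (((ρ b - 1).rangeRestrict).comp (Submodule.subtype _))
        (((ρ b - 1).rangeRestrict).comp ((ρ b).comp (Submodule.subtype _)))
    have hφ : Function.Injective φ := by
      rw [injective_iff_map_eq_zero]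
      rintro ⟨⟨u, hu⟩, ⟨v, hv⟩⟩ h
      have h' : (ρ b u - u) + (ρ b (ρ b v) - ρ b v) = 0 := congrArg Subtype.val h
      have e1 := congrArg (ρ c) h'
      rw [map_add, map_sub, map_sub, map_zero, hne b hb u hu, hne b hb v hv, ← mul_apply ρ b b,
        hne _ hb2 v hv, mul_apply] at e1
      have hu0 : ρ c u = u := by
        have := sub_eq_zero.2 (h'.trans e1.symm)
        rw [show ρ b u - u + (ρ b (ρ b v) - ρ b v) - (ρ b u - ρ c u + (ρ b (ρ b v) - ρ b v)) =
          ρ c u - u by abel, sub_eq_zero] at this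
        exact this
      have hu0 : u = 0 := thirteen_disjoint hc.1 hu hu0
      subst hu0
      rw [map_zero, sub_zero, zero_add, sub_eq_zero] at h'
      have h'' : ρ b v = v := apply_injective ρ b h'
      have hv0 : v = 0 := thirteen_disjoint hc.1 hv (by
        have := hne b hb v hv
        rwa [h''] at this)
      subst hv0
      rfl
    have := LinearMap.finrank_le_finrank_of_injective hφ
    rw [Module.finrank_prod, hd3] at this
    have := C.rank
    omega
  -- the support is the whole space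
  let L : Subgroup K :=
    { carrier := {k | ∀ c ∈ Y, IsThirteen ρ c → (LinearMap.range (ρ c - 1)).map (ρ k) =
        LinearMap.range (ρ c - 1)}
      one_mem' := fun c _ _ => by rw [map_one]; exact Submodule.map_id _
      mul_mem' := fun {k l} hk hl c hcY hc => by
        rw [map_mul]
        show Submodule.map ((ρ k).comp (ρ l)) _ = _
        rw [Submodule.map_comp, hl c hcY hc, hk c hcY hc]
      inv_mem' := fun {k} hk c hcY hc => by
        conv_lhs => rw [← hk c hcY hc]
        rw [← Submodule.map_comp]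
        show Submodule.map (ρ k⁻¹ * ρ k) _ = _
        rw [← map_mul, inv_mul_cancel, map_one]
        exact Submodule.map_id _ }
  have hLn : L.Normal := ⟨fun l hl k c hcY hc => by
    have hc' := hl _ (hYn.conj_mem c hcY k⁻¹) (hTconj hc k⁻¹).1
    rw [(hTconj hc k⁻¹).2] at hc'
    rw [map_mul, map_mul]
    show Submodule.map (((ρ k).comp (ρ l)).comp (ρ k⁻¹)) _ = _
    rw [Submodule.map_comp, Submodule.map_comp, hc', ← Submodule.map_comp]
    show Submodule.map (ρ k * ρ k⁻¹) _ = _
    rw [← map_mul, mul_inv_cancel, map_one]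
    exact Submodule.map_id _⟩
  have hbL : b ∈ L := fun c hcY hc => by
    refine Submodule.eq_of_le_of_finrank_eq ?_ ?_
    · rintro _ ⟨w, hw, rfl⟩
      exact hfixb c hcY hc w hw
    · exact (Submodule.equivMapOfInjective _ (apply_injective ρ b) _).finrank_eq.symm
  have hLtop := C.gen L hLn hbL
  set U := LinearMap.range (ρ c₀ - 1) with hUdef
  have hW3 : finrank 𝔽 W = 3 := by
    rcases C.irr U (fun k w hw => by
      have hk : k ∈ L := hLtop ▸ Subgroup.mem_top k
      have := hk c₀ hc₀Y hc₀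
      rw [hUdef, ← this]
      exact Submodule.mem_map_of_mem hw) with h | h
    · have := (thirteen_three hc₀ C.inj).1
      rw [← hUdef, h, finrank_bot] at this
      omega
    · have := (thirteen_three hc₀ C.inj).1
      rwa [← hUdef, h, finrank_top] at this
  -- `Y` has order thirteen
  obtain ⟨hco, a, ha⟩ := hcop ⊤
  have htop : support ρ (⊤ : Submodule 𝔽 W) = ⊤ := top_le_iff.1 fun k _ w => Submodule.mem_top
  rw [htop, inf_top_eq] at ha hco
  have hdvd := (card_dvd_of_support C.inj hco ⊤ (fun k _ w => Submodule.mem_top)).trans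
    (card_GL_dvd.1 _ (by rw [finrank_top, hW3]))
  rw [ha] at hdvd
  have ha1 : a ≤ 1 := by
    by_contra hne
    have := (pow_dvd_pow 13 (show 2 ≤ a by omega)).trans hdvd
    norm_num at this
  have hgen : Subgroup.zpowers c₀ = Y := Subgroup.eq_of_le_of_card_ge (Subgroup.zpowers_le.2 hc₀Y) (by
    rw [ha, Nat.card_zpowers, hc₀.1]
    calc 13 ^ a ≤ 13 ^ 1 := Nat.pow_le_pow_right (by norm_num) ha1
      _ = 13 := pow_one 13)
  have hpw : ∀ g : K, ∃ j : ℕ, g * c₀ * g⁻¹ = c₀ ^ j := fun g => by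
    have h := hYn.conj_mem c₀ hc₀Y g
    rw [← hgen] at h
    obtain ⟨j, hj⟩ := (mem_powers_iff_mem_zpowers.2 h)
    exact ⟨j, hj.symm⟩
  have habel : ∀ g h : K, (g * h) * c₀ * (g * h)⁻¹ = (h * g) * c₀ * (h * g)⁻¹ := fun g h => by
    obtain ⟨i, hi⟩ := hpw g
    obtain ⟨j, hj⟩ := hpw h
    calc (g * h) * c₀ * (g * h)⁻¹ = g * (h * c₀ * h⁻¹) * g⁻¹ := by group
      _ = c₀ ^ (i * j) := by rw [hj, ← conj_pow, hi, ← pow_mul]
      _ = c₀ ^ (j * i) := by rw [Nat.mul_comm]
      _ = h * (g * c₀ * g⁻¹) * h⁻¹ := by rw [hi, ← conj_pow, hj, ← pow_mul]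
      _ = _ := by group
  have hconjb : ∀ x : K, b * x * b⁻¹ * c₀ * (b * x * b⁻¹)⁻¹ = x * c₀ * x⁻¹ := fun x => by
    rw [habel (b * x) b⁻¹, inv_mul_cancel_left]
  obtain ⟨q₁, q₂, h₁, h₂, -, -, -, e12, e23, e31, hall⟩ := C.four
  have hq1 : q₁ * c₀ * q₁⁻¹ = c₀ := by
    have a2 : q₂ * c₀ * q₂⁻¹ = q₁ * c₀ * q₁⁻¹ := e12 ▸ hconjb q₁
    have a3 : (q₁ * q₂) * c₀ * (q₁ * q₂)⁻¹ = q₁ * c₀ * q₁⁻¹ := (e23 ▸ hconjb q₂).trans a2
    have : q₁ * (q₂ * c₀ * q₂⁻¹) * q₁⁻¹ = q₁ * c₀ * q₁⁻¹ := by rw [← a3]; group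
    rw [mul_left_inj, mul_right_inj, a2] at this
    exact this
  have hQc : ∀ x ∈ Q, x * c₀ = c₀ * x := by
    have hq2 : q₂ * c₀ * q₂⁻¹ = c₀ := (e12 ▸ hconjb q₁).trans hq1
    intro x hx
    rcases hall x hx with rfl | rfl | rfl | rfl
    · rw [one_mul, mul_one]
    · exact mul_inv_eq_iff_eq_mul.1 hq1
    · exact mul_inv_eq_iff_eq_mul.1 hq2
    · rw [mul_assoc, mul_inv_eq_iff_eq_mul.1 hq2, ← mul_assoc, mul_inv_eq_iff_eq_mul.1 hq1, mul_assoc]
  -- the fixed space vanishes and `c₀` fixes the lines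
  have hP0 : ∀ w, F.P w = 0 := by
    intro w
    let φ : 𝔽 × 𝔽 × 𝔽 →ₗ[𝔽] W := LinearMap.coprod (LinearMap.toSpanSingleton 𝔽 W F.e)
      (LinearMap.coprod (LinearMap.toSpanSingleton 𝔽 W (ρ b F.e))
        (LinearMap.toSpanSingleton 𝔽 W (ρ b (ρ b F.e))))
    have hφe : ∀ a d f, φ (a, d, f) = a • F.e + (d • ρ b F.e + f • ρ b (ρ b F.e)) := fun a d f => rfl
    have hφ : Function.Injective φ := by
      rw [injective_iff_map_eq_zero]
      rintro ⟨a, d, f⟩ h
      rw [hφe] at h
      have e1 := congrArg F.c h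
      have e2 := congrArg (fun v => F.c (ρ b (ρ b v))) h
      have e3 := congrArg (fun v => F.c (ρ b v)) h
      simp [F.c_e, F.c_be, F.c_bbe, C.b_apply] at e1 e2 e3
      simp [e1, e2, e3]
    have hs : Function.Surjective φ := (LinearMap.injective_iff_surjective_of_finrank_eq_finrank
      (by rw [hW3, Module.finrank_prod, Module.finrank_prod, Module.finrank_self])).1 hφ
    obtain ⟨⟨a, d, f⟩, hadf⟩ := hs (F.P w)
    rw [← F.P_idem, ← hadf, hφe]
    simp [map_add, map_smul, F.P_b, F.P_e]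
  have hline : ρ c₀ F.e = F.c (ρ c₀ F.e) • F.e := by
    obtain ⟨x, hx, -⟩ : ∃ x ∈ Q, x = F.q := ⟨F.q, F.q_mem, rfl⟩
    have hd := F.decomp (ρ c₀ F.e)
    rw [hP0, add_zero] at hd
    -- the element `q` and its conjugate separate the first line
    have hfix1 : ρ F.q (ρ c₀ F.e) = -ρ c₀ F.e := by
      rw [← mul_apply, hQc _ F.q_mem, mul_apply, F.q_e, map_neg]
    have hfix2 : ρ (b⁻¹ * F.q * b) (ρ c₀ F.e) = -ρ c₀ F.e := by
      have hm : b⁻¹ * F.q * b ∈ Q := by
        have h := C.conj _ (C.conj _ F.q_mem)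
        rwa [show b * (b * F.q * b⁻¹) * b⁻¹ = b ^ 3 * (b⁻¹ * F.q * b) * (b ^ 3)⁻¹ by
          rw [pow_succ, pow_succ, pow_one]; group, C.cube, one_mul, inv_one, mul_one] at h
      rw [← mul_apply, hQc _ hm, mul_apply, show ρ (b⁻¹ * F.q * b) F.e = -F.e by
        rw [mul_apply, mul_apply, F.q_be, map_neg, inv_apply_self], map_neg]
    set α := F.c (ρ c₀ F.e)
    set β := F.c (ρ b (ρ b (ρ c₀ F.e)))
    set γ := F.c (ρ b (ρ c₀ F.e))
    have hbinv : ∀ v, ρ b⁻¹ v = ρ b (ρ b v) := fun v => by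
      conv_lhs => rw [← C.b_apply v]
      rw [inv_apply_self]
    have g1 : γ = 0 := by
      have := congrArg (fun v => F.c (ρ b v)) hfix1
      rw [← hd] at this
      simp [F.q_e, F.q_be, F.q_bbe, F.c_e, F.c_be, F.c_bbe, C.b_apply] at this
      revert this; generalize γ = x; revert x; decide
    have g2 : β = 0 := by
      have := congrArg (fun v => F.c (ρ b (ρ b v))) hfix2
      rw [← hd] at this
      simp [mul_apply, hbinv, F.q_e, F.q_be, F.q_bbe, F.c_e, F.c_be, F.c_bbe, C.b_apply] at this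
      revert this; generalize β = x; revert x; decide
    rw [g1, g2, zero_smul, zero_smul, add_zero, add_zero] at hd
    exact hd.symm
  have hce : ρ c₀ F.e = F.e := by
    have hpow : ∀ n : ℕ, ρ (c₀ ^ n) F.e = F.c (ρ c₀ F.e) ^ n • F.e := by
      intro n
      induction n with
      | zero => rw [pow_zero, one_apply, pow_zero, one_smul]
      | succ n ih => rw [pow_succ', mul_apply, ih, map_smul, pow_succ, mul_smul, ← hline]
    have h13 := hpow 13
    rw [← hc₀.1, pow_orderOf_eq_one, one_apply, hc₀.1] at h13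
    have h1 : F.c (ρ c₀ F.e) ^ 13 = 1 := by
      have := congrArg F.c h13.symm
      rwa [map_smul, F.c_e, smul_eq_mul, mul_one] at this
    rw [hline, (by decide : ∀ a : 𝔽, a ^ 13 = 1 → a = 1) _ h1, one_smul]
  -- so `c₀` fixes a non-zero vector of its support
  have he0 : F.e = 0 := thirteen_disjoint hc₀.1 (w := F.e) (by
    have htop' : U = ⊤ := Submodule.eq_top_of_finrank_eq ((thirteen_three hc₀ C.inj).1.trans hW3.symm)
    rw [← hUdef, htop']; exact Submodule.mem_top) hce
  have := F.c_e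
  rw [he0, map_zero] at this
  exact zero_ne_one this

end Cfsg.Agent.CubicBlock
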