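import Cfsg.Agent.Lib.CubicBlock.Final
import Cfsg.Agent.Lib.PGroup.Basic
import Cfsg.Agent.Lib.Coprime.Invariant

/-!
# Setting up the core

* `le_of_commutator`: a four-group moved by an element of order three
* `finrank_range_le_two`: rank of one cubic block
* `Block.irreducible`: irreducibility on the complement of the fixed space
* `isExtraspecial_of_shape`
-/

set_option autoImplicit false
set_option linter.unusedSectionVars false

namespace Cfsg.Agent.CubicBlock

open Module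
open scoped commutatorElement

local notation "𝔽" => ZMod 3

theorem le_of_commutator {G : Type*} [Group G] [Finite G] {Q H : Subgroup G} {b : G} (hb : b ^ 3 = 1)
    (hQ : ∀ q ∈ Q, q * q = 1) (hQ4 : Nat.card Q = 4)
    (hconj : ∀ q ∈ Q, b * q * b⁻¹ ∈ Q) (hmove : ∃ q ∈ Q, b * q ≠ q * b)
    (h : ∀ q ∈ Q, ⁅b, q⁆ ∈ H) : Q ≤ H := by
  classical
  obtain ⟨q, hq, hne⟩ := hmove
  have hmem : ∀ x ∈ Q, ⁅b, x⁆ ∈ Q := fun x hx => by
    rw [commutatorElement_def]; exact mul_mem (hconj x hx) (inv_mem hx)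
  set c₀ := ⁅b, q⁆ with hc₀
  set c₁ := ⁅b, c₀⁆ with hc₁
  have h0 : c₀ ≠ 1 := fun e => hne (commutatorElement_eq_one_iff_mul_comm.1 e)
  have h1 : c₁ ≠ 1 := by
    intro e
    have hbc := commutatorElement_eq_one_iff_mul_comm.1 e
    have hcb : b * c₀ * b⁻¹ = c₀ := by rw [hbc, mul_inv_cancel_right]
    have e1 : b * q * b⁻¹ = c₀ * q := by rw [hc₀, commutatorElement_def]; group
    have e3 : q = c₀ * c₀ * c₀ * q := by
      calc q = b ^ 3 * q * (b ^ 3)⁻¹ := by rw [hb]; group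
        _ = b * (b * (b * q * b⁻¹) * b⁻¹) * b⁻¹ := by rw [pow_succ, pow_succ, pow_one]; group
        _ = b * (b * (c₀ * q) * b⁻¹) * b⁻¹ := by rw [e1]
        _ = b * ((b * c₀ * b⁻¹) * (b * q * b⁻¹)) * b⁻¹ := by group
        _ = b * (c₀ * (c₀ * q)) * b⁻¹ := by rw [hcb, e1]
        _ = (b * c₀ * b⁻¹) * ((b * c₀ * b⁻¹) * (b * q * b⁻¹)) := by group
        _ = _ := by rw [hcb, e1]; group
    rw [hQ _ (hmem q hq), one_mul] at e3
    exact h0 (mul_eq_right.1 e3.symm)
  have h01 : c₀ ≠ c₁ := by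
    intro e
    have : b * c₀ * b⁻¹ = c₁ * c₀ := by rw [hc₁, commutatorElement_def]; group
    rw [← e, hQ _ (hmem q hq), mul_inv_eq_one, mul_eq_left] at this
    exact h0 this
  have hdvd : Nat.card ↥(Q ⊓ H) ∣ 4 := hQ4 ▸ Subgroup.card_dvd_of_le inf_le_left
  have h3 : 3 ≤ Nat.card ↥(Q ⊓ H) := by
    have : Fintype ↥(Q ⊓ H) := Fintype.ofFinite _
    have := Finset.card_le_univ ({1, ⟨c₀, hmem q hq, h q hq⟩, ⟨c₁, hmem _ (hmem q hq), h _ (hmem q hq)⟩} :
      Finset ↥(Q ⊓ H))
    rwa [Finset.card_insert_of_notMem (by simp [Subtype.ext_iff, h0.symm, h1.symm]),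
      Finset.card_pair (by simp [Subtype.ext_iff, h01]), ← Nat.card_eq_fintype_card] at this
  have h4 : Nat.card ↥(Q ⊓ H) = 4 := by
    obtain ⟨i, hi, e⟩ := (Nat.dvd_prime_pow Nat.prime_two).1 (show Nat.card ↥(Q ⊓ H) ∣ 2 ^ 2 by simpa using hdvd)
    rw [e] at h3 ⊢
    interval_cases i <;> simp_all
  exact (Subgroup.eq_of_le_of_card_ge inf_le_left (by omega) : Q ⊓ H = Q) ▸ inf_le_right

theorem finrank_range_le_two {E : Type*} [AddCommGroup E] [Module 𝔽 E] [Finite E] (f : E →ₗ[𝔽] E)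
    (hf : ∀ v, f (f (f v)) = v) (E₀ E₁ : Submodule 𝔽 E) (hsup : E₀ ⊔ E₁ = ⊤) (h1 : ∀ v ∈ E₁, f v = v)
    (h0 : ∀ v ∈ E₀, f v ∈ E₀) (hcard : Nat.card E₀ = 27) :
    finrank 𝔽 (LinearMap.range (f - 1)) ≤ 2 := by
  have hd : finrank 𝔽 E₀ = 3 := by
    have h := Module.natCard_eq_pow_finrank (K := 𝔽) (V := E₀)
    rw [hcard, Nat.card_zmod] at h
    exact Nat.pow_right_injective (by norm_num : 2 ≤ 3)
      (show 3 ^ finrank 𝔽 E₀ = 3 ^ 3 from h.symm.trans (by norm_num))
  have hle : LinearMap.range (f - 1) ≤ E₀ := by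
    rintro _ ⟨v, rfl⟩
    obtain ⟨u, hu, w, hw, rfl⟩ := Submodule.mem_sup.1 (hsup ▸ Submodule.mem_top : v ∈ E₀ ⊔ E₁)
    show f (u + w) - (u + w) ∈ E₀
    rw [map_add, h1 w hw, add_sub_add_right_eq_sub]
    exact E₀.sub_mem (h0 u hu) hu
  by_contra h
  have heq : LinearMap.range (f - 1) = E₀ := Submodule.eq_of_le_of_finrank_le hle (by omega)
  have hcube : ∀ v, (f - 1) ((f - 1) ((f - 1) v)) = 0 := fun v => by
    show f (f (f v - v) - (f v - v)) - (f (f v - v) - (f v - v)) = 0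
    simp only [map_sub, hf]
    calc v - f (f v) - (f (f v) - f v) - (f (f v) - f v - (f v - v))
        = (f v + f v + f v) - (f (f v) + f (f v) + f (f v)) := by abel
      _ = 0 := by
        have h3 : ∀ w : E, w + w + w = 0 := fun w => by
          have : (3 : 𝔽) • w = 0 := by rw [show (3 : 𝔽) = 0 by decide, zero_smul]
          rw [show (3 : 𝔽) = 1 + 1 + 1 by decide, add_smul, add_smul, one_smul] at this
          exact this
        rw [h3, h3, sub_self]
  have hsurj : ∀ u ∈ E₀, ∃ v ∈ E₀, (f - 1) v = u := by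
    intro u hu
    rw [← heq] at hu
    obtain ⟨v, rfl⟩ := hu
    obtain ⟨x, hx, w, hw, rfl⟩ := Submodule.mem_sup.1 (hsup ▸ Submodule.mem_top : v ∈ E₀ ⊔ E₁)
    refine ⟨x, hx, ?_⟩
    show f x - x = f (x + w) - (x + w)
    rw [map_add, h1 w hw, add_sub_add_right_eq_sub]
  have hbot : E₀ = ⊥ := (Submodule.eq_bot_iff _).2 fun u hu => by
    obtain ⟨v, hv, rfl⟩ := hsurj u hu
    obtain ⟨v, hv', rfl⟩ := hsurj v hv
    obtain ⟨v, -, rfl⟩ := hsurj v hv'
    exact hcube v
  rw [hbot, finrank_bot] at hd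
  omega

variable {K W : Type*} [Group K] [AddCommGroup W] [Module 𝔽 W] [Finite K] [Finite W]
variable {ρ : Representation 𝔽 K W} {R Q : Subgroup K} {b : K}

theorem Block.irreducible (C : Block ρ Q b) [Fintype R] (hcop : (Nat.card R).Coprime 3)
    (hgen : ∀ L : Subgroup K, L.Normal → b ∈ L → L = ⊤) (hsum : ∀ w, ∑ r : R, ρ (r : K) w = 0)
    (N : Submodule 𝔽 W) (hN : ∀ k, ∀ w ∈ N, ρ k w ∈ N) : N = ⊥ ∨ N = ⊤ := by
  obtain ⟨F⟩ := C.frame
  have hc0 : (Fintype.card R : 𝔽) ≠ 0 := by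
    rw [← Nat.card_eq_fintype_card]
    exact natCast_ne_zero_of_coprime hcop
  by_cases hz : ∀ n ∈ N, F.c n = 0
  · left
    have hfix : ∀ n ∈ N, ρ b n = n := by
      intro n hn
      have := F.decomp n
      rw [hz n hn, hz _ (hN b _ hn), hz _ (hN b _ (hN b _ hn))] at this
      simp only [zero_smul, zero_add] at this
      rw [← this, F.b_P]
    let L : Subgroup K :=
      { carrier := {k | ∀ n ∈ N, ρ k n = n}
        one_mem' := fun n _ => one_apply ρ n
        mul_mem' := fun {k l} hk hl n hn => by rw [mul_apply, hl n hn, hk n hn]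
        inv_mem' := fun {k} hk n hn => by nth_rewrite 1 [← hk n hn]; rw [inv_apply_self] }
    have hL : L.Normal := ⟨fun l hl k n hn => by
      rw [mul_apply, mul_apply, hl _ (hN k⁻¹ n hn), apply_inv_self]⟩
    have htop := hgen L hL hfix
    refine (Submodule.eq_bot_iff _).2 fun n hn => ?_
    have h := hsum n
    rw [Finset.sum_congr rfl (fun (r : R) _ => (htop ▸ Subgroup.mem_top (r : K) : (r : K) ∈ L) n hn),
      Finset.sum_const, Finset.card_univ, ← Nat.cast_smul_eq_nsmul 𝔽] at h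
    exact (smul_eq_zero.1 h).resolve_left hc0
  · right
    push Not at hz
    obtain ⟨n, hn, hne⟩ := hz
    have hq' : ∀ v, ρ (b * F.q * b⁻¹) v = ρ b (ρ F.q (ρ b (ρ b v))) := fun v => by
      rw [show b⁻¹ = b * b from inv_eq_of_mul_eq_one_right (by rw [← mul_assoc,
        show b * b * b = b ^ 3 by simp [pow_succ], C.cube]), mul_apply, mul_apply, mul_apply]
    have he : F.e ∈ N := by
      have hm1 : n - ρ F.q n ∈ N := N.sub_mem hn (hN _ n hn)
      have hm2 := N.add_mem hm1 (hN (b * F.q * b⁻¹) _ hm1)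
      have e1 : n - ρ F.q n = (2 * F.c n) • F.e + (2 * F.c (ρ b (ρ b n))) • ρ b F.e := by
        conv_lhs => rw [← F.decomp n]
        simp only [map_add, map_smul, F.q_e, F.q_be, F.q_bbe, F.q_P, smul_neg, two_mul, add_smul]
        abel
      have a1 : ρ (b * F.q * b⁻¹) F.e = F.e := by rw [hq', F.q_bbe, C.b_apply]
      have a2 : ρ (b * F.q * b⁻¹) (ρ b F.e) = -ρ b F.e := by rw [hq', C.b_apply, F.q_e, map_neg]
      rw [e1, map_add, map_smul, map_smul, a1, a2, smul_neg] at hm2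
      have e2 : (2 * F.c n) • F.e + (2 * F.c (ρ b (ρ b n))) • ρ b F.e +
          ((2 * F.c n) • F.e + -((2 * F.c (ρ b (ρ b n))) • ρ b F.e)) = (2 * F.c n + 2 * F.c n) • F.e := by
        rw [add_smul]; abel
      rw [e2] at hm2
      refine (N.smul_mem_iff ?_).1 hm2
      revert hne
      generalize F.c n = t
      revert t
      decide
    let L : Subgroup K := support ρ N
    have hL : L.Normal := ⟨fun l hl k w => by
      have := hN k _ (hl (ρ k⁻¹ w))
      rwa [map_sub, apply_inv_self, ← mul_apply, ← mul_apply] at this⟩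
    have hbL : b ∈ L := fun w => by
      rw [← F.decomp w]
      simp only [map_add, map_smul, F.b_P, C.b_apply]
      have h1 := hN b _ he
      have h2 := hN b _ h1
      rw [show ∀ a b c d e f g : W, a + b + c + g - (d + e + f + g) = a + b + c - (d + e + f) by
        intros; abel]
      exact N.sub_mem (N.add_mem (N.add_mem (N.smul_mem _ h1) (N.smul_mem _ h2)) (N.smul_mem _ he))
        (N.add_mem (N.add_mem (N.smul_mem _ he) (N.smul_mem _ h1)) (N.smul_mem _ h2))
    have htop := hgen L hL hbL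
    refine Submodule.eq_top_iff'.2 fun w => ?_
    have h : ∑ r : R, (ρ (r : K) w - w) ∈ N :=
      N.sum_mem fun r _ => (htop ▸ Subgroup.mem_top (r : K) : (r : K) ∈ L) w
    rw [Finset.sum_sub_distrib, hsum, Finset.sum_const, Finset.card_univ, zero_sub,
      ← Nat.cast_smul_eq_nsmul 𝔽, N.neg_mem_iff] at h
    exact (N.smul_mem_iff hc0).1 h

theorem isExtraspecial_of_shape {P : Type*} [Group P] [Finite P] (hcard : Nat.card P = 32) (z : P)
    (hz1 : z ≠ 1) (hzz : z * z = 1) (hsq : ∀ x : P, x * x = 1 ∨ x * x = z)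
    (hcen : ∀ x : P, (∀ y, x * y = y * x) → x = 1 ∨ x = z) (hzc : ∀ y, z * y = y * z)
    (hna : ∃ x y : P, x * y ≠ y * x) : Cfsg.IsExtraspecial 2 P := by
  classical
  have hP : IsPGroup 2 P := IsPGroup.of_card (n := 5) (by rw [hcard]; norm_num)
  set Z := Subgroup.center P
  have hmem : ∀ x, x ∈ Z ↔ x = 1 ∨ x = z := fun x => by
    refine ⟨fun h => hcen x fun y => (Subgroup.mem_center_iff.1 h y).symm, ?_⟩
    rintro (rfl | rfl)
    · exact one_mem _
    · exact Subgroup.mem_center_iff.2 fun y => (hzc y).symm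
  have hZ : Nat.card Z = 2 := by
    rw [Nat.card_eq_two_iff]
    refine ⟨1, ⟨z, (hmem z).2 (Or.inr rfl)⟩, fun e => hz1 (congrArg Subtype.val e).symm, ?_⟩
    refine Set.eq_univ_of_forall fun x => ?_
    rcases (hmem x).1 x.2 with e | e
    · exact Or.inl (Subtype.ext e)
    · exact Or.inr (Subtype.ext e)
  have hsqZ : ∀ x : P, x * x ∈ Z := fun x => (hmem _).2 (hsq x)
  have hle : _root_.commutator P ≤ Z := by
    rw [commutator_def, Subgroup.commutator_le]
    intro x _ y _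
    rw [show ⁅x, y⁆ = (x * y) * (x * y) * (y⁻¹ * (x * x)⁻¹ * y⁻¹⁻¹) * (y * y)⁻¹ by
      rw [commutatorElement_def]; group]
    exact mul_mem (mul_mem (hsqZ _) ((inferInstance : Z.Normal).conj_mem _
      (inv_mem (hsqZ x)) _)) (inv_mem (hsqZ y))
  have hge : Z ≤ _root_.commutator P := by
    obtain ⟨x, y, hxy⟩ := hna
    have hmc : ⁅x, y⁆ ∈ _root_.commutator P :=
      Subgroup.commutator_mem_commutator (Subgroup.mem_top x) (Subgroup.mem_top y)
    have hez : ⁅x, y⁆ = z :=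
      ((hmem _).1 (hle hmc)).resolve_left fun e => hxy (commutatorElement_eq_one_iff_mul_comm.1 e)
    intro w hw
    rcases (hmem w).1 hw with rfl | rfl
    · exact one_mem _
    · exact hez ▸ hmc
  have hcomm : _root_.commutator P = Z := le_antisymm hle hge
  refine ⟨⟨hP, le_antisymm ?_ ?_, hcomm⟩, hZ⟩
  · exact PGroup.frattini_le_of_quotient_elementary (p := 2) hle fun x => by rw [pow_two]; exact hsqZ x
  · exact (le_of_eq hcomm.symm).trans (PGroup.commutator_le_frattini hP)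

end Cfsg.Agent.CubicBlock
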