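import Cfsg.Agent.Lib.CubicBlock.Odd

/-!
# Symplectic two-groups of signs

* `Core.commutant_ge`: the dimension of the commutant of `b`
* `Symp`, `form`: the symplectic data on `U` modulo the signs
* `spread_bijective`: the endomorphisms are spread by `U`
-/

set_option autoImplicit false
set_option linter.unusedSectionVars false

namespace Cfsg.Agent.CubicBlock

open Module
open scoped commutatorElement

local notation "𝔽" => ZMod 3

variable {K W : Type*} [Group K] [AddCommGroup W] [Module 𝔽 W] [Finite K] [Finite W]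
variable {ρ : Representation 𝔽 K W} {R Q : Subgroup K} {b : K}

/-- Elements acting as signs. -/
def signs (ρ : Representation 𝔽 K W) : Subgroup K where
  carrier := {k | (∀ w, ρ k w = w) ∨ ∀ w, ρ k w = -w}
  one_mem' := Or.inl (one_apply ρ)
  mul_mem' {k l} hk hl := by
    rcases hk with h | h <;> rcases hl with h' | h'
    · exact Or.inl fun w => by rw [mul_apply, h', h]
    · exact Or.inr fun w => by rw [mul_apply, h', h]
    · exact Or.inr fun w => by rw [mul_apply, h', h]
    · exact Or.inl fun w => by rw [mul_apply, h', h, neg_neg]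
  inv_mem' {k} hk := by
    rcases hk with h | h
    · exact Or.inl fun w => by nth_rewrite 1 [← h w]; rw [inv_apply_self]
    · exact Or.inr fun w => by
        have := congrArg (ρ k⁻¹) (h (-w))
        rw [inv_apply_self, neg_neg] at this
        exact this.symm

theorem signs_central (hρ : Function.Injective ρ) {z : K} (hz : z ∈ signs ρ) (k : K) : z * k = k * z := by
  refine hρ (LinearMap.ext fun w => ?_)
  rw [mul_apply, mul_apply]
  rcases hz with h | h
  · rw [h, h]
  · rw [h, h, map_neg]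

theorem signs_normal (hρ : Function.Injective ρ) : (signs ρ).Normal :=
  ⟨fun z hz k => by rw [← signs_central hρ hz k, mul_inv_cancel_right]; exact hz⟩

theorem signs_sq (hρ : Function.Injective ρ) {z : K} (hz : z ∈ signs ρ) : z * z = 1 := by
  refine hρ (LinearMap.ext fun w => ?_)
  rw [mul_apply, one_apply]
  rcases hz with h | h <;> simp [h]

/-- The commutant of one map. -/
def commutant (g : W →ₗ[𝔽] W) : Submodule 𝔽 (W →ₗ[𝔽] W) where
  carrier := {f | ∀ w, f (g w) = g (f w)}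
  zero_mem' w := by simp
  add_mem' {f h} hf hh w := by simp [hf w, hh w]
  smul_mem' a f hf w := by simp [hf w]

theorem Core.commutant_ge (C : Core ρ R Q b) :
    ∃ n : ℕ, finrank 𝔽 W = n ∧ 3 ≤ n ∧ n * n + 6 ≤ finrank 𝔽 (commutant (ρ b)) + 4 * n := by
  obtain ⟨F⟩ := C.frame
  set W₁ := LinearMap.range F.P with hW₁
  let Φ : W →ₗ[𝔽] (𝔽 × 𝔽 × 𝔽) × W₁ :=
    (F.c.prod ((F.c.comp ((ρ b).comp (ρ b))).prod (F.c.comp (ρ b)))).prod F.P.rangeRestrict
  have hΦ : ∀ w, Φ w = ((F.c w, F.c (ρ b (ρ b w)), F.c (ρ b w)), ⟨F.P w, w, rfl⟩) := fun w => rfl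
  have hP1 : ∀ w ∈ W₁, F.P w = w ∧ ρ b w = w ∧ F.c w = 0 := by
    rintro _ ⟨v, rfl⟩
    exact ⟨F.P_idem v, F.b_P v, F.c_P v⟩
  have hbij : Function.Bijective Φ := by
    refine ⟨(injective_iff_map_eq_zero Φ).2 fun w hw => ?_, ?_⟩
    · rw [hΦ] at hw
      simp only [Prod.mk_eq_zero] at hw
      obtain ⟨⟨h1, h2, h3⟩, h4⟩ := hw
      have h4' : F.P w = 0 := congrArg Subtype.val h4
      rw [← F.decomp w, h1, h2, h3, h4']
      simp
    · rintro ⟨⟨p, q, r⟩, ⟨v, hv⟩⟩
      obtain ⟨hv1, hv2, hv3⟩ := hP1 v hv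
      refine ⟨p • F.e + q • ρ b F.e + r • ρ b (ρ b F.e) + v, ?_⟩
      rw [hΦ]
      simp [F.c_e, F.c_be, F.c_bbe, C.b_apply, hv1, hv2, hv3, F.P_e, F.P_b]
  have hn : finrank 𝔽 W = 3 + finrank 𝔽 W₁ := by
    rw [(LinearEquiv.ofBijective Φ hbij).finrank_eq, Module.finrank_prod, Module.finrank_prod,
      Module.finrank_prod, Module.finrank_self]
  let m (v : W) : W →ₗ[𝔽] W :=
    F.c.smulRight v + (F.c.comp ((ρ b).comp (ρ b))).smulRight (ρ b v) +
      (F.c.comp (ρ b)).smulRight (ρ b (ρ b v))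
  let Θ : W × (W₁ →ₗ[𝔽] W₁) × (W₁ →ₗ[𝔽] 𝔽) →ₗ[𝔽] (W →ₗ[𝔽] W) :=
    { toFun := fun t => m t.1 + (W₁.subtype.comp t.2.1).comp F.P.rangeRestrict +
        (t.2.2.comp F.P.rangeRestrict).smulRight F.s
      map_add' := fun t t' => LinearMap.ext fun w => by
        simp only [m, Prod.fst_add, Prod.snd_add, LinearMap.add_apply, LinearMap.smulRight_apply,
          LinearMap.comp_apply, map_add, smul_add, add_smul, Submodule.subtype_apply]
        abel
      map_smul' := fun a t => LinearMap.ext fun w => by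
        simp only [m, Prod.smul_fst, Prod.smul_snd, LinearMap.add_apply, LinearMap.smulRight_apply,
          LinearMap.comp_apply, LinearMap.smul_apply, map_smul, smul_add, smul_assoc, RingHom.id_apply,
          Submodule.subtype_apply]
        simp only [smul_comm a] }
  have hΘ : ∀ t w, Θ t w = F.c w • t.1 + F.c (ρ b (ρ b w)) • ρ b t.1 + F.c (ρ b w) • ρ b (ρ b t.1) +
      (t.2.1 ⟨F.P w, w, rfl⟩ : W) + t.2.2 ⟨F.P w, w, rfl⟩ • F.s := fun t w => rfl
  have hmem : ∀ t, Θ t ∈ commutant (ρ b) := fun t w => by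
    have hv : ∀ u : W₁, ρ b (u : W) = u := fun u => (hP1 _ u.2).2.1
    have e : (⟨F.P (ρ b w), ρ b w, rfl⟩ : W₁) = ⟨F.P w, w, rfl⟩ := Subtype.ext (F.P_b w)
    rw [hΘ, hΘ, map_add, map_add, map_add, map_add, map_smul, map_smul, map_smul, map_smul, C.b_apply,
      C.b_apply, F.b_s C, hv, e]
    abel
  have hinj : Function.Injective (Θ.codRestrict _ hmem) := by
    rw [injective_iff_map_eq_zero]
    rintro ⟨v, φ, ψ⟩ h
    have h' : ∀ w, Θ (v, φ, ψ) w = 0 := fun w => by
      rw [show Θ (v, φ, ψ) = 0 from congrArg Subtype.val h]; rfl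
    have hv : v = 0 := by
      have := h' F.e
      rw [hΘ] at this
      have e : (⟨F.P F.e, F.e, rfl⟩ : W₁) = 0 := Subtype.ext F.P_e
      simpa [e, F.c_e, F.c_be, F.c_bbe] using this
    subst hv
    have h2 : ∀ u : W₁, (φ u : W) + ψ u • F.s = 0 := fun u => by
      obtain ⟨hu1, hu2, hu3⟩ := hP1 _ u.2
      have := h' u
      rw [hΘ] at this
      have e : (⟨F.P (u : W), (u : W), rfl⟩ : W₁) = u := Subtype.ext hu1
      rw [e] at this
      simpa [hu2, hu3] using this
    have h3 : ψ = 0 := LinearMap.ext fun u => by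
      have := congrArg F.c (h2 u)
      rw [map_add, (hP1 _ (φ u).2).2.2, map_smul, F.c_s, zero_add, map_zero, smul_eq_mul, mul_one] at this
      exact this
    subst h3
    have h4 : φ = 0 := LinearMap.ext fun u => Subtype.ext (by simpa using h2 u)
    subst h4
    rfl
  have h := LinearMap.finrank_le_finrank_of_injective hinj
  rw [Module.finrank_prod, Module.finrank_prod, Module.finrank_linearMap, Module.finrank_linearMap,
    Module.finrank_self] at h
  refine ⟨_, rfl, by omega, ?_⟩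
  rw [hn] at h ⊢
  nlinarith [h]

/-- The symplectic data. -/
structure Symp (ρ : Representation 𝔽 K W) (U : Subgroup K) : Prop where
  le : signs ρ ≤ U
  normal : U.Normal
  sq : ∀ u ∈ U, u * u ∈ signs ρ
  comm : ∀ u ∈ U, ∀ v ∈ U, ⁅u, v⁆ ∈ signs ρ
  cent : ∀ u ∈ U, (∀ v ∈ U, u * v = v * u) → u ∈ signs ρ

open scoped Classical in
/-- The sign of a commutator. -/
noncomputable def sgn (ρ : Representation 𝔽 K W) (u v : K) : 𝔽 :=
  if ∀ w, ρ ⁅u, v⁆ w = w then 1 else -1

theorem sgn_spec {u v : K} (h : ⁅u, v⁆ ∈ signs ρ) (w : W) : ρ ⁅u, v⁆ w = sgn ρ u v • w := by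
  unfold sgn
  split_ifs with h1
  · rw [one_smul]; exact h1 w
  · rw [neg_one_smul]; exact (h.resolve_left h1) w

theorem conj_apply_sgn {u v : K} (h : ⁅u, v⁆ ∈ signs ρ) (w : W) :
    ρ u (ρ v w) = sgn ρ u v • ρ v (ρ u w) := by
  rw [← sgn_spec h, ← mul_apply, ← mul_apply, ← mul_apply]
  congr 1
  rw [commutatorElement_def]; group

theorem sgn_mul_self (ρ : Representation 𝔽 K W) (u v : K) : sgn ρ u v * sgn ρ u v = 1 := by
  unfold sgn; split_ifs <;> decide

namespace Symp

variable {U : Subgroup K} (S : Symp ρ U)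

/-- The quotient. -/
abbrev V (ρ : Representation 𝔽 K W) (U : Subgroup K) : Type _ := ↥U ⧸ (signs ρ).subgroupOf U

/-- Representatives. -/
noncomputable def rep (v : V ρ U) : K := ((Quotient.out v : U) : K)

theorem rep_mem (v : V ρ U) : rep v ∈ U := (Quotient.out v).2

theorem mk_rep (v : V ρ U) : QuotientGroup.mk (⟨rep v, rep_mem v⟩ : U) = v := Quotient.out_eq v

theorem exists_rep (u : U) : ∃ z ∈ signs ρ, rep (QuotientGroup.mk u : V ρ U) = u * z := by
  have h := QuotientGroup.eq.1 (mk_rep (QuotientGroup.mk u : V ρ U)).symm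
  exact ⟨_, h, by simp [Subgroup.mem_subgroupOf]⟩

theorem mk_eq_iff {u v : U} :
    (QuotientGroup.mk u : V ρ U) = QuotientGroup.mk v ↔ ∃ z ∈ signs ρ, (v : K) = u * z := by
  rw [QuotientGroup.eq]
  constructor
  · intro h; exact ⟨_, h, by simp⟩
  · rintro ⟨z, hz, e⟩
    show ((u⁻¹ * v : U) : K) ∈ signs ρ
    rw [Subgroup.coe_mul, Subgroup.coe_inv, e, inv_mul_cancel_left]
    exact hz

end Symp

variable {U : Subgroup K}

theorem sgn_unique (C : Core ρ R Q b) {u v : K} (h : ⁅u, v⁆ ∈ signs ρ) {a : 𝔽}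
    (ha : ∀ w, ρ u (ρ v w) = a • ρ v (ρ u w)) : sgn ρ u v = a := by
  obtain ⟨F⟩ := C.frame
  refine smul_left_injective 𝔽 F.s_ne ?_
  have h1 := conj_apply_sgn h (ρ u⁻¹ (ρ v⁻¹ F.s))
  rw [ha, apply_inv_self, apply_inv_self] at h1
  exact h1.symm

theorem sgn_symm (C : Core ρ R Q b) (S : Symp ρ U) {u v : K} (hu : u ∈ U) (hv : v ∈ U) :
    sgn ρ v u = sgn ρ u v :=
  sgn_unique C (S.comm v hv u hu) fun w => by
    conv_rhs => rw [conj_apply_sgn (S.comm u hu v hv), smul_smul, sgn_mul_self, one_smul]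

theorem sgn_mul_left (C : Core ρ R Q b) (S : Symp ρ U) {u u' v : K} (hu : u ∈ U) (hu' : u' ∈ U)
    (hv : v ∈ U) : sgn ρ (u * u') v = sgn ρ u v * sgn ρ u' v :=
  sgn_unique C (S.comm _ (mul_mem hu hu') v hv) fun w => by
    rw [mul_apply, mul_apply, conj_apply_sgn (S.comm u' hu' v hv), map_smul,
      conj_apply_sgn (S.comm u hu v hv), smul_smul, mul_comm]

theorem sgn_signs (C : Core ρ R Q b) {z v : K} (hz : z ∈ signs ρ) : sgn ρ z v = 1 := by
  have h : ⁅z, v⁆ = 1 := commutatorElement_eq_one_iff_mul_comm.2 (signs_central C.inj hz v)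
  refine sgn_unique C (by rw [h]; exact one_mem _) fun w => ?_
  rw [one_smul, ← mul_apply, ← mul_apply, signs_central C.inj hz v]

theorem sgn_mul_signs (C : Core ρ R Q b) (S : Symp ρ U) {u v z : K} (hu : u ∈ U) (hv : v ∈ U)
    (hz : z ∈ signs ρ) : sgn ρ (u * z) v = sgn ρ u v ∧ sgn ρ v (u * z) = sgn ρ v u := by
  have h1 : sgn ρ (u * z) v = sgn ρ u v := by
    rw [sgn_mul_left C S hu (S.le hz) hv, sgn_signs C hz, mul_one]
  refine ⟨h1, ?_⟩
  rw [sgn_symm C S (mul_mem hu (S.le hz)) hv, h1, sgn_symm C S hv hu]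

/-- The form on the quotient. -/
noncomputable def form (v w : Symp.V ρ U) : 𝔽 := sgn ρ (Symp.rep v) (Symp.rep w)

theorem form_mk (C : Core ρ R Q b) (S : Symp ρ U) (u v : U) :
    form (QuotientGroup.mk u : Symp.V ρ U) (QuotientGroup.mk v) = sgn ρ (u : K) v := by
  obtain ⟨z, hz, e⟩ := Symp.exists_rep (ρ := ρ) u
  obtain ⟨z', hz', e'⟩ := Symp.exists_rep (ρ := ρ) v
  rw [form, e, e', (sgn_mul_signs C S u.2 (mul_mem v.2 (S.le hz')) hz).1,
    (sgn_mul_signs C S v.2 u.2 hz').2]

section Normal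

variable [hUn : U.Normal] [hZn : ((signs ρ).subgroupOf U).Normal]

theorem form_mul (C : Core ρ R Q b) (S : Symp ρ U) (u v w : Symp.V ρ U) :
    form (u * v) w = form u w * form v w := by
  obtain ⟨u, rfl⟩ := QuotientGroup.mk_surjective u
  obtain ⟨v, rfl⟩ := QuotientGroup.mk_surjective v
  obtain ⟨w, rfl⟩ := QuotientGroup.mk_surjective w
  rw [← QuotientGroup.mk_mul, form_mk C S, form_mk C S, form_mk C S, Subgroup.coe_mul,
    sgn_mul_left C S u.2 v.2 w.2]

theorem form_symm (C : Core ρ R Q b) (S : Symp ρ U) (u v : Symp.V ρ U) : form v u = form u v :=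
  sgn_symm C S (Symp.rep_mem u) (Symp.rep_mem v)

theorem form_nondeg (C : Core ρ R Q b) (S : Symp ρ U) {v : Symp.V ρ U} (hv : v ≠ 1) :
    ∃ w, form v w = -1 := by
  by_contra h
  push Not at h
  obtain ⟨u, rfl⟩ := QuotientGroup.mk_surjective v
  refine hv ((QuotientGroup.eq_one_iff u).2 (S.cent u u.2 fun x hx => ?_))
  have h1 : sgn ρ (u : K) x = 1 := by
    have := h (QuotientGroup.mk ⟨x, hx⟩)
    rw [form_mk C S] at this
    unfold sgn at this ⊢
    split_ifs with h2
    · rfl
    · rw [if_neg h2] at this; exact absurd rfl this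
  refine C.inj (LinearMap.ext fun w => ?_)
  rw [mul_apply, mul_apply, conj_apply_sgn (S.comm _ u.2 x hx), h1, one_smul]

theorem form_orth (C : Core ρ R Q b) (S : Symp ρ U) [Fintype (Symp.V ρ U)] [DecidableEq (Symp.V ρ U)]
    (u v : Symp.V ρ U) :
    ∑ w, form u w * form v w = if u = v then (Fintype.card (Symp.V ρ U) : 𝔽) else 0 := by
  split_ifs with h
  · subst h
    unfold form
    rw [Finset.sum_congr rfl fun w _ => sgn_mul_self ρ _ _, Finset.sum_const, Finset.card_univ,
      nsmul_eq_mul, mul_one]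
  · simp only [← form_mul C S]
    obtain ⟨w₀, hw₀⟩ := form_nondeg C S (v := u * v) fun e => h (by
      have hv : v * v = 1 := by
        obtain ⟨v, rfl⟩ := QuotientGroup.mk_surjective v
        rw [← QuotientGroup.mk_mul, QuotientGroup.eq_one_iff]
        exact S.sq _ v.2
      rw [← mul_one u, ← hv, ← mul_assoc, e, one_mul])
    refine (by decide : ∀ t : 𝔽, t = -t → t = 0) _ ?_
    conv_lhs => rw [← Equiv.sum_comp (Equiv.mulLeft w₀)]
    rw [← Finset.sum_neg_distrib]
    refine Finset.sum_congr rfl fun w _ => ?_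
    rw [Equiv.coe_mulLeft, form_symm C S (w₀ * w), form_mul C S, form_symm C S (u * v) w₀, hw₀,
      form_symm C S (u * v) w, neg_one_mul]

theorem card_quot_cast (C : Core ρ R Q b) (hUR : U ≤ R) [Fintype (Symp.V ρ U)] :
    (Fintype.card (Symp.V ρ U) : 𝔽) ≠ 0 := by
  refine natCast_ne_zero_of_coprime (Nat.Coprime.coprime_dvd_left ?_ C.cop)
  rw [← Nat.card_eq_fintype_card]
  exact (Subgroup.card_quotient_dvd_card _).trans (Subgroup.card_dvd_of_le hUR)

/-- The commutant of the symplectic group. -/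
def uCommutant (ρ : Representation 𝔽 K W) (U : Subgroup K) : Submodule 𝔽 (W →ₗ[𝔽] W) where
  carrier := {f | ∀ u ∈ U, ∀ w, f (ρ u w) = ρ u (f w)}
  zero_mem' u _ w := by simp
  add_mem' {f h} hf hh u hu w := by simp [hf u hu w, hh u hu w]
  smul_mem' a f hf u hu w := by simp [hf u hu w]

/-- Translates of the commutant. -/
noncomputable def spread (ρ : Representation 𝔽 K W) (U : Subgroup K) [Fintype (Symp.V ρ U)] :
    (Symp.V ρ U → uCommutant ρ U) →ₗ[𝔽] (W →ₗ[𝔽] W) :=
  ∑ v, (LinearMap.compRight 𝔽 (M₁ := W) (ρ (Symp.rep v))).comp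
    ((uCommutant ρ U).subtype.comp (LinearMap.proj v))

theorem spread_apply [Fintype (Symp.V ρ U)] (c : Symp.V ρ U → uCommutant ρ U) (w : W) :
    spread ρ U c w = ∑ v, ρ (Symp.rep v) ((c v : W →ₗ[𝔽] W) w) := by
  simp [spread]

theorem spread_bijective (C : Core ρ R Q b) (S : Symp ρ U) (hUR : U ≤ R) [Fintype (Symp.V ρ U)] :
    Function.Bijective (spread ρ U) := by
  classical
  have hc := card_quot_cast C hUR
  have hinv : ∀ (u : K) (w : W), ρ u⁻¹ (ρ u w) = w := inv_apply_self ρ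
  constructor
  · rw [injective_iff_map_eq_zero]
    intro c hc0
    funext v
    refine Subtype.ext (LinearMap.ext fun w => ?_)
    show (c v : W →ₗ[𝔽] W) w = 0
    have h : ∑ x, form v x • ρ (Symp.rep x) (spread ρ U c (ρ (Symp.rep x)⁻¹ w)) =
        (Fintype.card (Symp.V ρ U) : 𝔽) • ρ (Symp.rep v) ((c v : W →ₗ[𝔽] W) w) := by
      simp only [spread_apply, map_sum, Finset.smul_sum]
      rw [Finset.sum_comm]
      have hx : ∀ y x, form v x • ρ (Symp.rep x) (ρ (Symp.rep y) ((c y : W →ₗ[𝔽] W) (ρ (Symp.rep x)⁻¹ w))) =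
          (form v x * form y x) • ρ (Symp.rep y) ((c y : W →ₗ[𝔽] W) w) := fun y x => by
        rw [conj_apply_sgn (S.comm _ (Symp.rep_mem x) _ (Symp.rep_mem y)),
          ← (c y).2 _ (Symp.rep_mem x), apply_inv_self, smul_smul]
        congr 2
        exact form_symm C S y x
      simp only [hx, ← Finset.sum_smul, form_orth C S]
      rw [Finset.sum_eq_single v (fun y _ hy => by rw [if_neg (Ne.symm hy), zero_smul])
        (fun h => absurd (Finset.mem_univ _) h), if_pos rfl]
    simp only [hc0, LinearMap.zero_apply, map_zero, smul_zero, Finset.sum_const_zero] at h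
    exact apply_injective ρ _ (((smul_eq_zero.1 h.symm).resolve_left hc).trans (map_zero _).symm)
  · intro f
    let p : Symp.V ρ U → (W →ₗ[𝔽] W) := fun v =>
      ∑ x, form v x • (ρ (Symp.rep x)).comp (f.comp (ρ (Symp.rep x)⁻¹))
    have hp : ∀ v w, p v w = ∑ x, form v x • ρ (Symp.rep x) (f (ρ (Symp.rep x)⁻¹ w)) := fun v w => by
      simp [p]
    have hmem : ∀ v, (ρ (Symp.rep v)⁻¹).comp (p v) ∈ uCommutant ρ U := by
      intro v u hu w
      have hpu : p v (ρ u w) = form v (QuotientGroup.mk ⟨u, hu⟩) • ρ u (p v w) := by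
        rw [hp, hp, map_sum, Finset.smul_sum]
        conv_lhs => rw [← Equiv.sum_comp (Equiv.mulLeft (QuotientGroup.mk ⟨u, hu⟩ : Symp.V ρ U))]
        refine Finset.sum_congr rfl fun x _ => ?_
        obtain ⟨z, hz, e⟩ := Symp.exists_rep (ρ := ρ) ((⟨u, hu⟩ : U) * ⟨Symp.rep x, Symp.rep_mem x⟩)
        rw [QuotientGroup.mk_mul, Symp.mk_rep] at e
        rw [Equiv.coe_mulLeft, e, form_symm C S _ v, form_mul C S, form_symm C S v, form_symm C S v x,
          map_smul, smul_smul]
        congr 1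
        show ρ (u * Symp.rep x * z) (f (ρ (u * Symp.rep x * z)⁻¹ (ρ u w))) = _
        rw [← mul_apply, ← signs_central C.inj hz]
        rcases hz with hz | hz
        · have hz' : ∀ y, ρ z⁻¹ y = y := fun y => by nth_rewrite 1 [← hz y]; rw [hinv]
          rw [mul_apply ρ z, hz, mul_apply]
          congr 2
          rw [show (z * (u * Symp.rep x))⁻¹ * u = (Symp.rep x)⁻¹ * (u⁻¹ * z⁻¹ * u) by group,
            mul_apply, mul_apply, mul_apply, hz', hinv]
        · have hz' : ∀ y, ρ z⁻¹ y = -y := fun y => by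
            have := hinv z (-y)
            rwa [hz, neg_neg] at this
          rw [mul_apply ρ z, hz, mul_apply, ← map_neg, ← map_neg, ← map_neg]
          congr 2
          rw [show (z * (u * Symp.rep x))⁻¹ * u = (Symp.rep x)⁻¹ * (u⁻¹ * z⁻¹ * u) by group,
            mul_apply, mul_apply, mul_apply]
          simp [hz', hinv]
      show ρ (Symp.rep v)⁻¹ (p v (ρ u w)) = ρ u (ρ (Symp.rep v)⁻¹ (p v w))
      apply apply_injective ρ (Symp.rep v)
      rw [apply_inv_self, hpu, conj_apply_sgn (S.comm _ (Symp.rep_mem v) u hu), apply_inv_self]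
      congr 1
      have := form_mk C S ⟨Symp.rep v, Symp.rep_mem v⟩ (⟨u, hu⟩ : U)
      rwa [Symp.mk_rep] at this
    refine ⟨fun v => (Fintype.card (Symp.V ρ U) : 𝔽)⁻¹ • ⟨_, hmem v⟩, LinearMap.ext fun w => ?_⟩
    rw [spread_apply]
    simp only [Submodule.coe_smul, LinearMap.smul_apply, LinearMap.comp_apply, map_smul, apply_inv_self, hp,
      ← Finset.smul_sum]
    rw [Finset.sum_comm]
    simp only [← Finset.sum_smul]
    have h1 : ∀ x : Symp.V ρ U, ∑ v, form v x = if x = 1 then (Fintype.card (Symp.V ρ U) : 𝔽) else 0 :=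
      fun x => by
        rw [← form_orth C S x 1]
        refine Finset.sum_congr rfl fun v _ => ?_
        rw [← form_mul C S, mul_one, form_symm C S x v]
    simp only [h1]
    rw [Finset.sum_eq_single 1 (fun y _ hy => by rw [if_neg hy, zero_smul])
      (fun h => absurd (Finset.mem_univ _) h), if_pos rfl, smul_smul, inv_mul_cancel₀ hc, one_smul]
    obtain ⟨z, hz, e⟩ := Symp.exists_rep (ρ := ρ) (1 : U)
    rw [QuotientGroup.mk_one, Subgroup.coe_one, one_mul] at e
    rw [e]
    rcases hz with hz | hz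
    · rw [hz]
      congr 1
      nth_rewrite 1 [← hz w]
      rw [hinv]
    · rw [hz, ← map_neg]
      congr 1
      have := hinv z (-w)
      rw [hz, neg_neg] at this
      rw [this, neg_neg]

end Normal

end Cfsg.Agent.CubicBlock
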